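/-
Automorphisms fixing the two opposite maximal unipotent subgroups of a Chevalley group.
-/
import Mathlib
import Cfsg.Agent.Lib.Chev.SteinbergChar
import Cfsg.Agent.Lib.Chev.StKernel
import Cfsg.Agent.Lib.BNPair.Main

set_option autoImplicit false
set_option linter.unusedSectionVars false

open Cfsg Cfsg.Lie CfsgLib.Chev

namespace CfsgLib.ChevAut

/-- `w` sends the positive roots to the negative ones and negatives of simple roots to simple roots. -/
noncomputable def oppOK (T : Tab) (w : List ℕ) : Bool :=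
  (w.all fun i => decide (i < T.l)) &&
    (((List.range T.n).all fun r => decide (T.half ≤ r ↔ rword T w r < T.half)) &&
      (List.range T.l).all fun j => (List.range T.l).any fun i =>
        decide (rword T w (T.neg (T.simple j)) = T.simple i))

theorem oppOK_spec {T : Tab} {w : List ℕ} (hw : oppOK T w = true) :
    WordOK T w ∧ (∀ r < T.n, T.half ≤ r ↔ rword T w r < T.half) ∧
      ∀ j < T.l, ∃ i < T.l, rword T w (T.neg (T.simple j)) = T.simple i := by
  simp only [oppOK, Bool.and_eq_true, List.all_eq_true, List.any_eq_true, List.mem_range,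
    decide_eq_true_eq] at hw
  exact ⟨fun i hi => hw.1 i hi, hw.2.1, hw.2.2⟩

section
variable (D : ChevalleyDatum) (F : Type*) [Field F]

/-- `U` in the group. -/
noncomputable def uG : Subgroup ↥(D.group F) := (D.posUnipotent F).subgroupOf (D.group F)

/-- `V` in the group. -/
noncomputable def vG : Subgroup ↥(D.group F) := (D.negUnipotent F).subgroupOf (D.group F)

/-- `B` in the group. -/
noncomputable def bG : Subgroup ↥(D.group F) := (D.borelSubgroup F).subgroupOf (D.group F)

/-- `H` in the group. -/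
noncomputable def tG : Subgroup ↥(D.group F) := (D.diagonalSubgroup F).subgroupOf (D.group F)

/-- A minimal parabolic in the group. -/
noncomputable def pG (i : ℕ) : Subgroup ↥(D.group F) := (D.parabolicSubgroup F {i}).subgroupOf (D.group F)

/-- A root subgroup in the group. -/
noncomputable def rG (r : ℕ) : Subgroup ↥(D.group F) := (D.rootSubgroup F r).subgroupOf (D.group F)

/-- The automorphisms fixing `U` and `V`. -/
noncomputable def stab : Subgroup (MulAut ↥(D.group F)) where
  carrier := {α | (uG D F).map α.toMonoidHom = uG D F ∧ (vG D F).map α.toMonoidHom = vG D F}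
  one_mem' := ⟨Subgroup.map_id _, Subgroup.map_id _⟩
  mul_mem' {a b} ha hb := by
    have e : ∀ K : Subgroup ↥(D.group F), K.map (a * b).toMonoidHom = (K.map b.toMonoidHom).map a.toMonoidHom :=
      fun K => by rw [Subgroup.map_map]; rfl
    exact ⟨by rw [e, hb.1, ha.1], by rw [e, hb.2, ha.2]⟩
  inv_mem' {a} ha := by
    have e : ∀ K : Subgroup ↥(D.group F), K.map a.toMonoidHom = K → K.map a⁻¹.toMonoidHom = K := fun K hK => by
      conv_lhs => rw [← hK, Subgroup.map_map]
      rw [show a⁻¹.toMonoidHom.comp a.toMonoidHom = MonoidHom.id _ from MonoidHom.ext fun x => a.symm_apply_apply x,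
        Subgroup.map_id]
    exact ⟨e _ ha.1, e _ ha.2⟩

end

section
variable {D : ChevalleyDatum} {T : Tab} {C : Tab.Cover} (h : Cert D T C) {F : Type*} [Field F]

variable {w : List ℕ} (hw : oppOK T w = true)

include h in
theorem mem_rG {r : ℕ} (hr : r < T.n) {x : ↥(D.group F)} :
    x ∈ rG D F r ↔ ∃ t, (x : GL D.Idx F) = X D r t := by
  rw [rG, Subgroup.mem_subgroupOf, h.rootSubgroup_eq, h.gen_singleton hr]

include h in
theorem mem_uG_of_pos {r : ℕ} (hr : r < T.n) (hp : T.half ≤ r) {x : ↥(D.group F)} {t : F}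
    (hx : (x : GL D.Idx F) = X D r t) : x ∈ uG D F := by
  rw [uG, Subgroup.mem_subgroupOf, hx, h.posUnipotent_eq]
  exact X_mem_gen D (S := posSet T) ⟨hp, hr⟩ t

include h in
theorem mem_vG_of_neg {r : ℕ} (hp : r < T.half) {x : ↥(D.group F)} {t : F}
    (hx : (x : GL D.Idx F) = X D r t) : x ∈ vG D F := by
  rw [vG, Subgroup.mem_subgroupOf, hx, h.negUnipotent_eq]
  exact X_mem_gen D (S := {r | r < T.half}) hp t

include h in
theorem uG_le_bG : uG D F ≤ bG D F := fun _ hx => Subgroup.mem_sup_left hx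

include h in
theorem vG_inf_bG : vG D F ⊓ bG D F = ⊥ := by
  rw [eq_bot_iff]
  intro x hx
  have h1 : (x : GL D.Idx F) ∈ D.borelSubgroup F ⊓ D.negUnipotent F := ⟨hx.2, hx.1⟩
  rw [h.borel_inf_negUnipotent, Subgroup.mem_bot] at h1
  exact Subgroup.mem_bot.2 (Subtype.ext h1)

include h in
theorem vG_inf_uG : vG D F ⊓ uG D F = ⊥ :=
  eq_bot_iff.2 ((inf_le_inf_left _ (uG_le_bG h)).trans (vG_inf_bG h).le)

include h in
theorem normalizer_uG : Subgroup.normalizer (uG D F : Set ↥(D.group F)) = bG D F := by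
  have e := h.normalizer_radical (F := F) ∅
  rw [h.unipotentRadical_empty, show D.parabolicSubgroup F ∅ = D.borelSubgroup F by
    simp [ChevalleyDatum.parabolicSubgroup]] at e
  ext g
  have key : g ∈ Subgroup.normalizer (uG D F : Set ↥(D.group F)) ↔
      (g : GL D.Idx F) ∈ Subgroup.normalizer (D.posUnipotent F : Set (GL D.Idx F)) := by
    simp only [Subgroup.mem_normalizer_iff, uG, Subgroup.mem_subgroupOf, Subgroup.coe_mul, Subgroup.coe_inv]
    exact ⟨fun hh a => ⟨fun ha => (hh ⟨a, h.posUnipotent_le_group ha⟩).1 ha, fun ha => by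
      have hag : a ∈ D.group F := by
        have := mul_mem (mul_mem (inv_mem g.2) (h.posUnipotent_le_group ha)) g.2
        rwa [show (g : GL D.Idx F)⁻¹ * (g * a * (g : GL D.Idx F)⁻¹) * g = a by group] at this
      exact (hh ⟨a, hag⟩).2 ha⟩, fun hh a => hh a⟩
  rw [key, bG, Subgroup.mem_subgroupOf, ← e, Subgroup.mem_inf]
  exact (and_iff_left g.2).symm

include h in
theorem nW_mem {v : List ℕ} (hv : WordOK T v) : nW D F v ∈ D.group F :=
  h.monomial_le_group (h.nW_mem_monomial hv)

/-- The element exchanging `U` and `V`. -/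
noncomputable def n0 : ↥(D.group F) := ⟨nW D F w, nW_mem h (oppOK_spec hw).1⟩

include h hw in
theorem conj_uG : (uG D F).map (MulAut.conj (n0 h hw (F := F))).toMonoidHom = vG D F := by
  obtain ⟨hwk, hsign, -⟩ := oppOK_spec hw
  refine le_antisymm ?_ ?_
  · rintro _ ⟨x, hx, rfl⟩
    rw [SetLike.mem_coe, uG, Subgroup.mem_subgroupOf, h.posUnipotent_eq] at hx
    rw [vG, Subgroup.mem_subgroupOf, h.negUnipotent_eq]
    exact Cert.conj_gen_le (g := nW D F w) (S' := {r | r < T.half})
      (fun r hr => ⟨_, (hsign r hr.2).1 hr.1, h.Maps_nW hwk hr.2⟩) hx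
  · intro y hy
    rw [vG, Subgroup.mem_subgroupOf, h.negUnipotent_eq] at hy
    refine ⟨(n0 h hw (F := F))⁻¹ * y * n0 h hw (F := F), ?_, by simp [mul_assoc]⟩
    rw [SetLike.mem_coe, uG, Subgroup.mem_subgroupOf, h.posUnipotent_eq]
    have hwr : WordOK T w.reverse := fun i hi => hwk i (List.mem_reverse.1 hi)
    have := Cert.conj_gen_le (g := (nW D F w)⁻¹) (S' := posSet T) (fun r (hr : r < T.half) => ?_) hy
    · simpa [n0] using this
    have hr' : r < T.n := by have := h.two_mul_half; omega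
    refine ⟨rword T w.reverse r, ⟨?_, h.rword_lt hwr hr'⟩, ?_⟩
    · rw [hsign _ (h.rword_lt hwr hr'), h.rword_reverse hwk hr']
      exact hr
    · have h1 := h.Maps_nW (F := F) hwk (h.rword_lt hwr hr')
      rw [h.rword_reverse hwk hr'] at h1
      exact Cert.Maps_inv h1

include h hw in
theorem conj_vG : (vG D F).map (MulAut.conj (n0 h hw (F := F))).toMonoidHom = uG D F := by
  obtain ⟨hwk, hsign, -⟩ := oppOK_spec hw
  have htwo := h.two_mul_half
  refine le_antisymm ?_ ?_
  · rintro _ ⟨x, hx, rfl⟩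
    rw [SetLike.mem_coe, vG, Subgroup.mem_subgroupOf, h.negUnipotent_eq] at hx
    rw [uG, Subgroup.mem_subgroupOf, h.posUnipotent_eq]
    refine Cert.conj_gen_le (g := nW D F w) (S' := posSet T) (fun r (hr : r < T.half) => ?_) hx
    have hr' : r < T.n := by omega
    exact ⟨_, ⟨not_lt.1 fun e => absurd ((hsign r hr').2 e) (not_le.2 hr), h.rword_lt hwk hr'⟩, h.Maps_nW hwk hr'⟩
  · intro y hy
    rw [uG, Subgroup.mem_subgroupOf, h.posUnipotent_eq] at hy
    refine ⟨(n0 h hw (F := F))⁻¹ * y * n0 h hw (F := F), ?_, by simp [mul_assoc]⟩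
    rw [SetLike.mem_coe, vG, Subgroup.mem_subgroupOf, h.negUnipotent_eq]
    have hwr : WordOK T w.reverse := fun i hi => hwk i (List.mem_reverse.1 hi)
    have := Cert.conj_gen_le (g := (nW D F w)⁻¹) (S' := {r | r < T.half}) (fun r hr => ?_) hy
    · simpa [n0] using this
    refine ⟨rword T w.reverse r, ?_, ?_⟩
    · show rword T w.reverse r < T.half
      by_contra hge
      have := (hsign _ (h.rword_lt hwr hr.2)).1 (not_lt.1 hge)
      rw [h.rword_reverse hwk hr.2] at this
      exact absurd this (not_lt.2 hr.1)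
    · have h1 := h.Maps_nW (F := F) hwk (h.rword_lt hwr hr.2)
      rw [h.rword_reverse hwk hr.2] at h1
      exact Cert.Maps_inv h1

include h hw in
/-- A conjugate of `U` meeting `U` trivially is conjugate to `V` under `B`. -/
theorem opposite_conj [Fintype F] {g : ↥(D.group F)}
    (hg : (uG D F).map (MulAut.conj g).toMonoidHom ⊓ uG D F = ⊥) :
    ∃ b ∈ bG D F, (uG D F).map (MulAut.conj g).toMonoidHom = (vG D F).map (MulAut.conj b).toMonoidHom := by
  classical
  haveI : Finite ↥(D.group F) := inferInstance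
  obtain ⟨b, hb, n, hn, u, hu, e⟩ := h.bruhat_exists g.2
  obtain ⟨v, hv, t, ht, en⟩ := h.exists_word_of_monomial hn
  have hbG := h.borel_le_group hb
  have hmaps : ∀ r < T.n, Maps D n r (rword T v r) := fun r hr => by
    rw [en]; exact Cert.Maps_mul (h.Maps_diagonal ht hr) (h.Maps_nW hv hr)
  have huU : u ∈ D.posUnipotent F := by
    rw [h.cellUnipotent_eq (π := rword T v) fun r hr => ⟨h.rword_lt hv hr, hmaps r hr⟩] at hu
    exact h.gen_pos_le (fun r hr => hr.1) hu
  let B : ↥(D.group F) := ⟨b, hbG⟩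
  let N : ↥(D.group F) := ⟨n, h.monomial_le_group hn⟩
  let U : ↥(D.group F) := ⟨u, h.posUnipotent_le_group huU⟩
  have eg : g = B * N * U := Subtype.ext e
  have hconj : ∀ K : Subgroup ↥(D.group F), ∀ a c : ↥(D.group F),
      K.map (MulAut.conj (a * c)).toMonoidHom = (K.map (MulAut.conj c).toMonoidHom).map (MulAut.conj a).toMonoidHom := by
    intro K a c; rw [Subgroup.map_map, map_mul]; rfl
  have hfixU : ∀ a ∈ bG D F, (uG D F).map (MulAut.conj a).toMonoidHom = uG D F := by
    intro a ha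
    rw [← normalizer_uG h] at ha
    ext x
    constructor
    · rintro ⟨y, hy, rfl⟩; exact (Subgroup.mem_normalizer_iff.1 ha y).1 hy
    · exact fun hx => ⟨a⁻¹ * x * a, (Subgroup.mem_normalizer_iff.1 ha _).2 (by simpa [mul_assoc] using hx),
        by simp [mul_assoc]⟩
  have hg' : (uG D F).map (MulAut.conj g).toMonoidHom =
      ((uG D F).map (MulAut.conj N).toMonoidHom).map (MulAut.conj B).toMonoidHom := by
    rw [eg, hconj, hfixU U (Subgroup.mem_sup_left huU), hconj]
  refine ⟨B, hb, ?_⟩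
  rw [hg']
  congr 1
  have hneg : ∀ r ∈ posSet T, rword T v r < T.half := by
    intro r hr
    by_contra hge
    obtain ⟨c, hc, ec⟩ := hmaps r hr.2
    have hX : (⟨X D (rword T v r) (c * 1), h.X_mem_group (h.rword_lt hv hr.2) _⟩ : ↥(D.group F)) ∈
        (uG D F).map (MulAut.conj N).toMonoidHom ⊓ uG D F := by
      refine ⟨⟨⟨X D r 1, h.X_mem_group hr.2 1⟩, mem_uG_of_pos h hr.2 hr.1 rfl, Subtype.ext (ec 1)⟩,
        mem_uG_of_pos h (h.rword_lt hv hr.2) (not_lt.1 hge) rfl⟩
    have h2 := Subgroup.mem_map_of_mem (MulAut.conj B).toMonoidHom hX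
    rw [Subgroup.map_inf _ _ _ (MulEquiv.injective _), ← hg', hfixU B hb, hg, Subgroup.mem_bot] at h2
    have h3 := (MulEquiv.map_eq_one_iff _).1 h2
    have h4 := congrArg Subtype.val h3
    exact mul_ne_zero hc one_ne_zero ((h.X_eq_one_iff (h.rword_lt hv hr.2) _).1 h4)
  have hle : (uG D F).map (MulAut.conj N).toMonoidHom ≤ vG D F := by
    rintro _ ⟨x, hx, rfl⟩
    rw [SetLike.mem_coe, uG, Subgroup.mem_subgroupOf, h.posUnipotent_eq] at hx
    rw [vG, Subgroup.mem_subgroupOf, h.negUnipotent_eq]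
    exact Cert.conj_gen_le (g := n) (S' := {r | r < T.half}) (fun r hr => ⟨_, hneg r hr, hmaps r hr.2⟩) hx
  refine Subgroup.eq_of_le_of_card_ge hle ?_
  rw [Subgroup.card_map_of_injective (MulEquiv.injective _), ← conj_uG h hw,
    Subgroup.card_map_of_injective (MulEquiv.injective _)]

include h hw in
/-- Every automorphism is inner times one fixing `U` and `V`. -/
theorem exists_stab [Fintype F] {p : ℕ} [Fact p.Prime] [CharP F p] (α : MulAut ↥(D.group F)) :
    ∃ g : ↥(D.group F), MulAut.conj g * α ∈ stab D F := by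
  classical
  haveI : Finite ↥(D.group F) := inferInstance
  have hcU : Nat.card (uG D F) = p ^ (Nat.card ↥(D.group F)).factorization p := by
    rw [uG, Nat.card_congr (Subgroup.subgroupOfEquivOfLe h.posUnipotent_le_group).toEquiv, h.card_posUnipotent,
      h.factorization_card_group (p := p)]
  let Q : Sylow p ↥(D.group F) := Sylow.ofCard (uG D F) hcU
  have hQ : (Q : Subgroup ↥(D.group F)) = uG D F := rfl
  let Q' : Sylow p ↥(D.group F) := Sylow.ofCard ((uG D F).map α.toMonoidHom)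
    (by rw [Subgroup.card_map_of_injective (MulEquiv.injective α)]; exact hcU)
  obtain ⟨g, hg⟩ := MulAction.exists_smul_eq ↥(D.group F) Q' Q
  set α₁ := MulAut.conj g * α with hα₁
  have h1 : (uG D F).map α₁.toMonoidHom = uG D F := by
    have := congrArg (fun S : Sylow p ↥(D.group F) => (S : Subgroup ↥(D.group F))) hg
    simp only [hQ, Sylow.coe_subgroup_smul] at this
    conv_rhs => rw [← this]
    show (uG D F).map α₁.toMonoidHom = ((uG D F).map α.toMonoidHom).map (MulAut.conj g).toMonoidHom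
    rw [Subgroup.map_map]
    rfl
  have h2 : (vG D F).map α₁.toMonoidHom =
      (uG D F).map (MulAut.conj (α₁ (n0 h hw (F := F)))).toMonoidHom := by
    conv_lhs => rw [← conj_uG h hw, Subgroup.map_map]
    conv_rhs => rw [← h1, Subgroup.map_map]
    congr 1
    ext x
    simp
  have h3 : (vG D F).map α₁.toMonoidHom ⊓ uG D F = ⊥ := by
    conv_lhs => arg 2; rw [← h1]
    rw [← Subgroup.map_inf _ _ _ (MulEquiv.injective α₁), vG_inf_uG h, Subgroup.map_bot]
  rw [h2] at h3
  obtain ⟨b, hb, hbe⟩ := opposite_conj h hw h3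
  rw [← h2] at hbe
  refine ⟨b⁻¹ * g, ?_⟩
  rw [map_mul, mul_assoc, ← hα₁]
  have e : ∀ K : Subgroup ↥(D.group F), K.map (MulAut.conj b⁻¹ * α₁).toMonoidHom =
      (K.map α₁.toMonoidHom).map (MulAut.conj b⁻¹).toMonoidHom := fun K => by rw [Subgroup.map_map]; rfl
  refine ⟨?_, ?_⟩
  · rw [e, h1]
    have hb' : b⁻¹ ∈ Subgroup.normalizer (uG D F : Set ↥(D.group F)) := by
      rw [normalizer_uG h]; exact inv_mem hb
    ext x
    constructor
    · rintro ⟨y, hy, rfl⟩; exact (Subgroup.mem_normalizer_iff.1 hb' y).1 hy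
    · exact fun hx => ⟨b * x * b⁻¹, (Subgroup.mem_normalizer_iff.1 hb' _).2 (by simpa [mul_assoc] using hx),
        by simp [mul_assoc]⟩
  · rw [e, hbe, Subgroup.map_map]
    conv_rhs => rw [← Subgroup.map_id (vG D F)]
    congr 1
    ext x
    simp [mul_assoc]

/-! ### Minimal parabolics -/

include h in
theorem nS_mem_pG {i : ℕ} (hi : i < T.l) :
    (⟨nS D F i, h.monomial_le_group (h.nS_mem_monomial hi)⟩ : ↥(D.group F)) ∈ pG D F i :=
  h.nS_mem_parabolic hi rfl

include h in
theorem bG_le_pG (i : ℕ) : bG D F ≤ pG D F i := fun _ hx => Subgroup.mem_sup_left hx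

include h in
theorem pG_le_iff {i : ℕ} (hi : i < T.l) {K : Subgroup ↥(D.group F)} (hK : bG D F ≤ K) :
    pG D F i ≤ K ↔ (⟨nS D F i, h.monomial_le_group (h.nS_mem_monomial hi)⟩ : ↥(D.group F)) ∈ K := by
  refine ⟨fun hle => hle (nS_mem_pG h hi), fun hn => ?_⟩
  have hle : D.parabolicSubgroup F {i} ≤ K.map (D.group F).subtype := by
    refine sup_le (fun x hx => ⟨⟨x, h.borel_le_group hx⟩, hK hx, rfl⟩) ((Subgroup.closure_le _).2 ?_)
    rintro g ⟨j, hj, -, e⟩
    rw [Set.mem_singleton_iff] at hj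
    subst hj
    exact ⟨_, hn, Units.ext ((h.coe_nS j).trans e.symm)⟩
  intro x hx
  obtain ⟨y, hy, e⟩ := hle hx
  rwa [Subtype.ext e] at hy

include h in
/-- A subgroup strictly above `B` contains a minimal parabolic. -/
theorem exists_pG_le {K : Subgroup ↥(D.group F)} (hK : bG D F ≤ K) (hne : K ≠ bG D F) :
    ∃ j < T.l, pG D F j ≤ K := by
  obtain ⟨P, hPB, -, hPS⟩ := h.exists_bnPair (F := F)
  have e := CfsgLib.BN.eq_parabolic_of_le (P := P) (M := K) (by rw [hPB]; exact hK)
  by_contra hcon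
  push Not at hcon
  refine hne (le_antisymm ?_ hK)
  rw [e]
  refine sup_le (by rw [hPB]; exact le_rfl) ((Subgroup.closure_le _).2 ?_)
  rintro s ⟨hs, hsK⟩
  rw [hPS] at hs
  obtain ⟨j, hj, es⟩ := hs
  refine absurd ((pG_le_iff h hj hK).2 ?_) (hcon j hj)
  rwa [show (⟨nS D F j, h.monomial_le_group (h.nS_mem_monomial hj)⟩ : ↥(D.group F)) = s from Subtype.ext es.symm]

include h in
theorem mem_pG {i : ℕ} (hi : i < T.l) {g : ↥(D.group F)} (hg : g ∈ pG D F i) :
    g ∈ bG D F ∨ ∃ b ∈ D.borelSubgroup F, ∃ c : F,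
      (g : GL D.Idx F) = b * nS D F i * X D (T.simple i) c := by
  obtain ⟨P, hPB, -, hPS⟩ := h.exists_bnPair (F := F)
  let s : P.S := ⟨⟨nS D F i, h.monomial_le_group (h.nS_mem_monomial hi)⟩, by rw [hPS]; exact ⟨i, hi, rfl⟩⟩
  have hle : pG D F i ≤ P.parabolic {(s : ↥(D.group F))} :=
    (pG_le_iff h hi (by rw [bG, ← hPB]; exact CfsgLib.BN.B_le_parabolic _)).2
      (Subgroup.mem_sup_right (Subgroup.subset_closure rfl))
  rcases CfsgLib.BN.mem_parabolic_singleton.1 (hle hg) with h1 | h1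
  · left; rw [bG, ← hPB]; exact h1
  right
  obtain ⟨b, hb, b', hb', rfl⟩ := CfsgLib.BN.mem_gen_cell h1
  rw [hPB, Subgroup.mem_subgroupOf] at hb hb'
  obtain ⟨u, hu, t, ht, eb⟩ := h.mem_borel_iff.1 hb'
  obtain ⟨v, hv, a, rfl⟩ := h.exists_posBut_mul hi hu
  obtain ⟨c, -, ec⟩ := h.Maps_diagonal (inv_mem ht) (h.simple_lt hi)
  have h3 := ec a
  rw [_root_.inv_inv] at h3
  refine ⟨(b : GL D.Idx F) * (nS D F i * v * (nS D F i)⁻¹) * (nS D F i * t * (nS D F i)⁻¹),
    mul_mem (mul_mem hb (Subgroup.mem_sup_left (h.gen_pos_le (fun r hr => hr.1) (h.nS_conj_posBut hi hv))))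
      (Subgroup.mem_sup_right (h.nS_conj_diagonal hi ht)), c * a, ?_⟩
  show (b : GL D.Idx F) * nS D F i * (b' : GL D.Idx F) = _
  rw [eb, ← h3]
  group

include h hw in
theorem nS_not_mem {i : ℕ} (hi : i < T.l) : nS D F i ∉ D.borelSubgroup F := fun hmem =>
  h.nS_conj_not_mem (F := F) hi
    (mul_mem (mul_mem hmem (h.X_mem_borel (h.simple_spec hi).1 (h.simple_lt hi) _)) hmem)

include h hw in
theorem vG_inf_pG {i : ℕ} (hi : i < T.l) : vG D F ⊓ pG D F i = rG D F (T.neg (T.simple i)) := by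
  have hp := h.simple_lt hi
  have hnp : T.neg (T.simple i) < T.half := by
    have := (h.simple_spec hi).1
    have := h.two_mul_half
    unfold Tab.neg; omega
  refine le_antisymm (fun x hx => ?_) (fun x hx => ?_)
  · obtain ⟨hxV, hxP⟩ := hx
    rcases mem_pG h hi hxP with hB | ⟨b, hb, c, e⟩
    · have hx1 : x ∈ vG D F ⊓ bG D F := ⟨hxV, hB⟩
      rw [vG_inf_bG h, Subgroup.mem_bot] at hx1
      rw [hx1]; exact one_mem _
    by_cases hc : c = 0
    · exfalso
      rw [hc, h.X_zero hp, mul_one] at e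
      have hn0 : nS D F i * nW D F w ∈ D.monomialSubgroup F :=
        mul_mem (h.nS_mem_monomial hi) (h.nW_mem_monomial (oppOK_spec hw).1)
      have hxU : (⟨(nW D F w)⁻¹ * x * nW D F w, by
          have := (n0 h hw (F := F))⁻¹ * x * n0 h hw (F := F)
          exact mul_mem (mul_mem (inv_mem (nW_mem h (oppOK_spec hw).1)) x.2) (nW_mem h (oppOK_spec hw).1)⟩ :
          ↥(D.group F)) ∈ uG D F := by
        rw [← conj_uG h hw] at hxV
        obtain ⟨y, hy, rfl⟩ := hxV
        refine Eq.mpr (congrArg (· ∈ uG D F) ?_) hy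
        apply Subtype.ext
        show (nW D F w)⁻¹ * (nW D F w * (y : GL D.Idx F) * (nW D F w)⁻¹) * nW D F w = (y : GL D.Idx F)
        group
      have hcell : (nW D F w)⁻¹ * (x : GL D.Idx F) * nW D F w ∈ Cert.cellUnipotent D F (nW D F w) := by
        rw [h.cellUnipotent_eq (π := rword T w) fun r hr => ⟨h.rword_lt (oppOK_spec hw).1 hr,
          h.Maps_nW (oppOK_spec hw).1 hr⟩]
        rw [uG, Subgroup.mem_subgroupOf, h.posUnipotent_eq] at hxU
        exact gen_mono D (S := posSet T) (fun r hr => (Set.mem_sdiff r).2 ⟨hr, not_le.2 (((oppOK_spec hw).2.1 r hr.2).1 hr.1)⟩) hxU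
      have key := (h.bruhat_unique (b := b) (b' := 1) (n := nS D F i * nW D F w) (n' := nW D F w)
        (u := 1) (u' := (nW D F w)⁻¹ * (x : GL D.Idx F) * nW D F w) hb (one_mem _) hn0
        (h.nW_mem_monomial (oppOK_spec hw).1) (one_mem _) hcell (by rw [e]; group)).1
      rw [show (nS D F i * nW D F w)⁻¹ * nW D F w = (nW D F w)⁻¹ * (nS D F i)⁻¹ * nW D F w by group] at key
      have h4 := (Subgroup.mem_normalizer_iff.1
        (h.monomial_le_normalizer_diagonal (h.nW_mem_monomial (oppOK_spec hw).1)) _).1 key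
      rw [show nW D F w * ((nW D F w)⁻¹ * (nS D F i)⁻¹ * nW D F w) * (nW D F w)⁻¹ = (nS D F i)⁻¹ by group] at h4
      exact nS_not_mem h hw hi (Subgroup.mem_sup_right (inv_mem_iff.1 h4))
    · have h2 := h.X_neg_simple_eq (F := F) hi c⁻¹
      rw [_root_.inv_inv] at h2
      set y : ↥(D.group F) := ⟨X D (T.neg (T.simple i)) c⁻¹, h.X_mem_group (Cert.neg_lt (T := T) hp) _⟩ with hy
      have hxy : x * y⁻¹ ∈ vG D F ⊓ bG D F := by
        refine Subgroup.mem_inf.2 ⟨mul_mem hxV (Subgroup.inv_mem _ (mem_vG_of_neg h hnp (x := y) rfl)), ?_⟩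
        show (x : GL D.Idx F) * (X D (T.neg (T.simple i)) c⁻¹)⁻¹ ∈ D.borelSubgroup F
        rw [e, h2, show b * nS D F i * X D (T.simple i) c *
            (X D (T.simple i) c * (hU D (T.simple i) (-c) * nS D F i) * X D (T.simple i) c)⁻¹ =
            b * (hU D (T.simple i) (-c))⁻¹ * (X D (T.simple i) c)⁻¹ by group]
        exact mul_mem (mul_mem hb (inv_mem (Subgroup.mem_sup_right (h.hU_mem hp (neg_ne_zero.2 hc)))))
          (inv_mem (h.X_mem_borel (h.simple_spec hi).1 hp _))
      rw [vG_inf_bG h, Subgroup.mem_bot, mul_inv_eq_one] at hxy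
      exact (mem_rG h (Cert.neg_lt (T := T) hp)).2 ⟨c⁻¹, congrArg Subtype.val hxy⟩
  · obtain ⟨t, e⟩ := (mem_rG h (Cert.neg_lt (T := T) hp)).1 hx
    refine ⟨mem_vG_of_neg h hnp e, ?_⟩
    show (x : GL D.Idx F) ∈ D.parabolicSubgroup F {i}
    rw [e]
    exact h.X_neg_mem_parabolic (J := ({i} : Set ℕ)) _ (h.simple_spec hi).1 hp (h.inRootSub_simple hi (Set.mem_singleton i)) t

end

end CfsgLib.ChevAut
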