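/-
Automorphisms fixing `U` and `V` on the simple root elements.
-/
import Mathlib
import Cfsg.Agent.Lib.ChevAut.Opposite
import Cfsg.Agent.Lib.Chev.CharacterAut
import Cfsg.Agent.Lib.Chev.StPresent

set_option autoImplicit false
set_option linter.unusedSectionVars false

open Cfsg Cfsg.Lie CfsgLib.Chev

namespace CfsgLib.ChevAut

/-- A semimultiplicative additive map of a finite field is multiplicative. -/
theorem mul_of_sq {F : Type*} [Field F] [Finite F] {g : F → F} (hadd : ∀ a b, g (a + b) = g a + g b)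
    (h1 : g 1 = 1) (hsq : ∀ t, t ≠ 0 → ∀ u, g (t ^ 2 * u) = g t ^ 2 * g u) : ∀ a b, g (a * b) = g a * g b := by
  have h0 : g 0 = 0 := by simpa using hadd 0 0
  have hneg : ∀ a, g (-a) = -g a := fun a => eq_neg_of_add_eq_zero_left (by rw [← hadd, neg_add_cancel, h0])
  have hsq' : ∀ t u, g (t ^ 2 * u) = g (t ^ 2) * g u := by
    intro t u
    by_cases ht : t = 0
    · simp [ht, h0]
    · rw [hsq t ht u, ← mul_one (t ^ 2), hsq t ht 1, h1, mul_one]
  intro a b
  by_cases h2 : ringChar F = 2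
  · obtain ⟨t, rfl⟩ := FiniteField.isSquare_of_char_two h2 a
    rw [← pow_two]
    exact hsq' t b
  · have h2' : (2 : F) ≠ 0 := Ring.two_ne_zero h2
    have ea : a = ((a + 1) / 2) ^ 2 + -((a - 1) / 2) ^ 2 := by field_simp; ring
    rw [ea, add_mul, hadd, neg_mul, hneg, hsq', hsq', hadd, hneg]
    ring

/-- The first term of the commutator formula at two simple roots is nonzero exactly when they are adjacent. -/
noncomputable def pairsOK (T : Tab) : Bool :=
  (List.range T.l).all fun i => (List.range T.l).all fun j => decide (i = j) ||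
    (decide (T.simple i ≠ T.simple j) && decide (T.simple j ≠ T.neg (T.simple i)) &&
      decide (T.neg (T.simple j) ≠ T.simple i) && (T.commTerms (T.simple i) (T.neg (T.simple j))).isEmpty &&
      (let L := T.commTerms (T.simple i) (T.simple j)
       if T.car i (T.simple j) = 0 then L.isEmpty
       else decide ((L.map (fun q => q.1)).Pairwise (fun a b => a < b)) && L.all (fun q => decide (T.half ≤ q.1)) &&
        match L with
        | [] => false
        | q :: _ => decide (q.2.1 = 1 ∨ q.2.1 = -1)))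

variable {D : ChevalleyDatum} {T : Tab} {C : Tab.Cover} (h : Cert D T C) {F : Type*} [Field F]

/-- A root element of the group. -/
noncomputable def xE {r : ℕ} (hr : r < T.n) (t : F) : ↥(D.group F) := ⟨X D r t, h.X_mem_group hr t⟩

/-- The element `n_r(t)` of the group. -/
noncomputable def nE {r : ℕ} (hr : r < T.n) (t : F) : ↥(D.group F) := ⟨nU D r t, h.nU_mem_group hr t⟩

section
variable {w : List ℕ} (hw : oppOK T w = true)

include h in
theorem map_bG {α : MulAut ↥(D.group F)} (hα : α ∈ stab D F) : (bG D F).map α.toMonoidHom = bG D F := by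
  rw [← normalizer_uG h]
  conv_rhs => rw [← hα.1]
  ext x
  rw [Subgroup.mem_normalizer_iff]
  constructor
  · rintro ⟨y, hy, rfl⟩
    rw [SetLike.mem_coe, Subgroup.mem_normalizer_iff] at hy
    intro z
    obtain ⟨z, rfl⟩ := α.surjective z
    show α z ∈ (uG D F).map α.toMonoidHom ↔ α y * α z * (α y)⁻¹ ∈ (uG D F).map α.toMonoidHom
    rw [← map_inv, ← map_mul, ← map_mul]
    simp only [Subgroup.mem_map_equiv, MulEquiv.symm_apply_apply]
    exact hy z
  · intro hx
    refine ⟨α.symm x, ?_, α.apply_symm_apply x⟩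
    rw [SetLike.mem_coe, Subgroup.mem_normalizer_iff]
    intro z
    have := hx (α z)
    simp only [Subgroup.mem_map_equiv, MulEquiv.symm_apply_apply, map_mul, map_inv] at this
    exact this

include h hw in
/-- The minimal parabolics are permuted. -/
theorem perm_neg {α : MulAut ↥(D.group F)} (hα : α ∈ stab D F) {i : ℕ} (hi : i < T.l) :
    ∃ j < T.l, (rG D F (T.neg (T.simple i))).map α.toMonoidHom = rG D F (T.neg (T.simple j)) := by
  set K := (pG D F i).map α.toMonoidHom with hK
  have hBK : bG D F ≤ K := by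
    rw [← map_bG h hα]
    exact Subgroup.map_mono (bG_le_pG h i)
  have hne : K ≠ bG D F := fun e => by
    have h1 : pG D F i = bG D F := Subgroup.map_injective (f := α.toMonoidHom) α.injective (e.trans (map_bG h hα).symm)
    have h2 := nS_mem_pG (F := F) h hi
    rw [h1] at h2
    exact nS_not_mem h hw hi h2
  obtain ⟨j, hj, hle⟩ := exists_pG_le h hBK hne
  refine ⟨j, hj, ?_⟩
  have hKj : K = pG D F j := by
    refine le_antisymm ?_ hle
    set M := (pG D F j).comap α.toMonoidHom with hM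
    have hMle : M ≤ pG D F i := by
      have := Subgroup.comap_mono (f := α.toMonoidHom) hle
      rwa [hK, Subgroup.comap_map_eq_self_of_injective (f := α.toMonoidHom) α.injective] at this
    have hBM : bG D F ≤ M := by
      rw [hM, ← Subgroup.map_le_iff_le_comap, map_bG h hα]
      exact bG_le_pG h j
    rw [hK, Subgroup.map_le_iff_le_comap, ← hM]
    obtain ⟨g, hgM, hgB⟩ := SetLike.exists_of_lt (hBM.lt_of_ne fun e => by
      have h1 : pG D F j = bG D F := by
        have h2 := congrArg (Subgroup.map α.toMonoidHom) e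
        rw [hM, Subgroup.map_comap_eq_self_of_surjective (f := α.toMonoidHom) α.surjective, map_bG h hα] at h2
        exact h2.symm
      have h2 := nS_mem_pG (F := F) h hj
      rw [h1] at h2
      exact nS_not_mem h hw hj h2)
    refine (pG_le_iff h hi hBM).2 ?_
    obtain ⟨b, hb, c, e⟩ := (mem_pG h hi (hMle hgM)).resolve_left hgB
    have h3 := mul_mem (mul_mem (inv_mem (hBM (x := ⟨b, h.borel_le_group hb⟩) hb)) hgM)
      (inv_mem (hBM (x := xE h (h.simple_lt hi) c) (h.X_mem_borel (h.simple_spec hi).1 (h.simple_lt hi) c)))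
    convert h3 using 1
    apply Subtype.ext
    show nS D F i = b⁻¹ * (g : GL D.Idx F) * (X D (T.simple i) c)⁻¹
    rw [e]; group
  rw [← vG_inf_pG h hw hi, Subgroup.map_inf _ _ _ (MulEquiv.injective α), hα.2, ← hK, hKj, vG_inf_pG h hw hj]

include h hw in
/-- The positive simple root groups are permuted. -/
theorem perm_pos {α : MulAut ↥(D.group F)} (hα : α ∈ stab D F) {i : ℕ} (hi : i < T.l) :
    ∃ j < T.l, (rG D F (T.simple i)).map α.toMonoidHom = rG D F (T.simple j) := by
  obtain ⟨hwk, -, hopp⟩ := oppOK_spec hw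
  set c := MulAut.conj (n0 h hw (F := F)) with hc
  have hcU : (uG D F).map c.toMonoidHom = vG D F := conj_uG h hw
  have hcV : (vG D F).map c.toMonoidHom = uG D F := conj_vG h hw
  have hmm : ∀ (a b : MulAut ↥(D.group F)) (K : Subgroup ↥(D.group F)),
      K.map (a * b).toMonoidHom = (K.map b.toMonoidHom).map a.toMonoidHom := fun a b K => by
    rw [Subgroup.map_map]; rfl
  have hinv : ∀ K L : Subgroup ↥(D.group F), K.map c.toMonoidHom = L → L.map c⁻¹.toMonoidHom = K := by
    intro K L e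
    rw [← e, ← hmm, inv_mul_cancel]
    exact Subgroup.map_id K
  have hβ : c⁻¹ * α * c ∈ stab D F := by
    refine ⟨?_, ?_⟩
    · rw [hmm, hmm, hcU, hα.2]; exact hinv _ _ hcU
    · rw [hmm, hmm, hcV, hα.1]; exact hinv _ _ hcV
  have hopp' : ∀ j < T.l, ∀ i, i < T.l → rword T w (T.neg (T.simple j)) = T.simple i →
      (rG D F (T.neg (T.simple j))).map c.toMonoidHom = rG D F (T.simple i) := by
    intro j hj i hi e
    obtain ⟨a, ha, ea⟩ := h.Maps_nW (F := F) hwk (Cert.neg_lt (T := T) (h.simple_lt hj))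
    rw [e] at ea
    ext x
    constructor
    · rintro ⟨y, hy, rfl⟩
      obtain ⟨t, ht⟩ := (mem_rG h (Cert.neg_lt (T := T) (h.simple_lt hj))).1 hy
      refine (mem_rG h (h.simple_lt hi)).2 ⟨a * t, ?_⟩
      show nW D F w * (y : GL D.Idx F) * (nW D F w)⁻¹ = _
      rw [ht]; exact ea t
    · intro hx
      obtain ⟨t, ht⟩ := (mem_rG h (h.simple_lt hi)).1 hx
      refine ⟨xE h (Cert.neg_lt (T := T) (h.simple_lt hj)) (a⁻¹ * t),
        (mem_rG h (Cert.neg_lt (T := T) (h.simple_lt hj))).2 ⟨_, rfl⟩, Subtype.ext ?_⟩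
      show nW D F w * X D _ (a⁻¹ * t) * (nW D F w)⁻¹ = (x : GL D.Idx F)
      rw [ea, ht, mul_inv_cancel_left₀ ha]
  choose σ hσl hσ using hopp
  obtain ⟨⟨j, hj⟩, hji⟩ : ∃ j : Fin T.l, σ j.1 j.2 = i := by
    let s : Fin T.l → Fin T.l := fun j => ⟨σ j.1 j.2, hσl j.1 j.2⟩
    have hs : Function.Injective s := fun a b e => by
      have h1 := hσ a.1 a.2
      have h2 := hσ b.1 b.2
      rw [show σ a.1 a.2 = σ b.1 b.2 from congrArg Fin.val e] at h1
      have hnl := fun k : Fin T.l => Cert.neg_lt (T := T) (h.simple_lt k.2)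
      have h3 : T.neg (T.simple a.1) = T.neg (T.simple b.1) := by
        rw [← h.rword_reverse hwk (hnl a), ← h.rword_reverse hwk (hnl b)]
        have key : ∀ r, r < T.n → rword T w.reverse (rword T w r) = r := fun r hr => by
          have := h.rword_reverse (w := w.reverse) (fun i hi => hwk i (List.mem_reverse.1 hi)) hr
          rwa [List.reverse_reverse] at this
        rw [h.rword_reverse hwk (hnl a), h.rword_reverse hwk (hnl b), ← key _ (hnl a), ← key _ (hnl b), h1, h2]
      have h4 := congrArg T.neg h3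
      rw [Cert.neg_neg (T := T) (h.simple_lt a.2), Cert.neg_neg (T := T) (h.simple_lt b.2)] at h4
      have h5 := (h.simple_spec a.2).2.2.2 a.1 a.2
      rw [h4, (h.simple_spec b.2).2.2.2 a.1 a.2, if_pos rfl] at h5
      split_ifs at h5 with hab
      · exact Fin.ext hab.symm
      · simp at h5
    obtain ⟨j, hj⟩ := Finite.injective_iff_surjective.1 hs ⟨i, hi⟩
    exact ⟨j, congrArg Fin.val hj⟩
  obtain ⟨k, hk, ek⟩ := perm_neg h hw hβ hj
  refine ⟨σ k hk, hσl k hk, ?_⟩
  have h1 := hopp' j hj i hi ((hσ j hj).trans (congrArg T.simple hji))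
  have h2 := hopp' k hk (σ k hk) (hσl k hk) (hσ k hk)
  rw [← h1, ← h2, ← ek, ← hmm, ← hmm]
  congr 2
  group

end

/-! ### Parameters -/

section
variable (hp2 : pairsOK T = true)

include h hp2 in
theorem pair_facts {i j : ℕ} (hi : i < T.l) (hj : j < T.l) (hne : i ≠ j) :
    (∀ t u : F, Commute (X D (T.simple i) t) (X D (T.neg (T.simple j)) u)) ∧
      (T.car i (T.simple j) = 0 → ∀ t u : F, Commute (X D (T.simple i) t) (X D (T.simple j) u)) ∧
      (T.car i (T.simple j) ≠ 0 → ¬ Commute (X D (T.simple i) (1 : F)) (X D (T.simple j) 1)) := by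
  simp only [pairsOK, List.all_eq_true, List.mem_range, Bool.or_eq_true, Bool.and_eq_true, decide_eq_true_eq,
    List.isEmpty_iff] at hp2
  obtain ⟨⟨⟨⟨hd, hd'⟩, hd''⟩, hop⟩, hL⟩ := (hp2 i hi j hj).resolve_left hne
  have hpi := h.simple_lt hi
  have hpj := h.simple_lt hj
  have hnj := Cert.neg_lt (T := T) hpj
  have hne1 : T.neg (T.simple j) ≠ T.neg (T.simple i) := fun e => hd (by
    rw [← Cert.neg_neg (T := T) hpi, ← e, Cert.neg_neg (T := T) hpj])
  have hswap : ∀ {r s : ℕ}, r < T.n → s < T.n → s ≠ r → s ≠ T.neg r → T.commTerms r s = [] → ∀ t u : F,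
      Commute (X D r t) (X D s u) := by
    intro r s hr hs h1 h2 h3 t u
    have e := h.X_conj hr hs h1 h2 t u
    rw [h3, List.map_nil, List.prod_nil, mul_one, ← h.X_inv hr, mul_assoc, inv_mul_eq_iff_eq_mul] at e
    exact e.symm
  refine ⟨hswap hpi hnj hd'' hne1 hop, fun hc => ?_, fun hc hcomm => ?_⟩
  · rw [if_pos hc, List.isEmpty_iff] at hL
    exact hswap hpi hpj hd.symm hd' hL
  · rw [if_neg hc] at hL
    simp only [Bool.and_eq_true, decide_eq_true_eq, List.all_eq_true] at hL
    obtain ⟨⟨hsort, hpos⟩, hfirst⟩ := hL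
    have e := h.X_conj hpi hpj hd.symm hd' (1 : F) 1
    have hc' : X D (T.simple i) (-1 : F) * X D (T.simple j) 1 * X D (T.simple i) 1 = X D (T.simple j) 1 := by
      rw [mul_assoc, ← hcomm.eq, ← mul_assoc, h.X_add hpi, neg_add_cancel, h.X_zero hpi, one_mul]
    rw [hc', left_eq_mul] at e
    rcases hLL : T.commTerms (T.simple i) (T.simple j) with _ | ⟨q, L⟩
    · rw [hLL] at hfirst; simp at hfirst
    rw [hLL] at hfirst hsort hpos e
    simp only [decide_eq_true_eq] at hfirst
    classical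
    set R := (q :: L).map (fun q => q.1) with hR
    let val : ℕ → F := fun r => (((q :: L).find? (fun c => c.1 == r)).map
      fun c => (c.2.1 : F) * (-1 : F) ^ c.2.2.1 * 1 ^ c.2.2.2).getD 0
    have hnd : ((q :: L).map (fun q => q.1)).Nodup := hsort.imp fun hab => ne_of_lt hab
    have hval : ∀ c ∈ q :: L, val c.1 = (c.2.1 : F) * (-1 : F) ^ c.2.2.1 * 1 ^ c.2.2.2 := by
      intro c hc
      show (((q :: L).find? _).map _).getD 0 = _
      rcases hf : (q :: L).find? (fun c' => c'.1 == c.1) with _ | c'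
      · exact absurd (List.find?_eq_none.1 hf c hc) (by simp)
      · have h1 := List.find?_some hf
        simp only [beq_iff_eq] at h1
        have h2 := List.inj_on_of_nodup_map hnd (List.mem_of_find?_eq_some hf) hc h1
        subst h2
        simp only [hf, Option.map_some, Option.getD_some]
    have e2 : prodX D R val = prodX D R (fun _ => (0 : F)) := by
      rw [prodX, prodX, hR, List.map_map, List.map_map]
      rw [List.map_congr_left (l := q :: L) (f := (fun r => X D r (val r)) ∘ fun q => q.1)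
        (g := fun c => X D c.1 ((c.2.1 : F) * (-1 : F) ^ c.2.2.1 * 1 ^ c.2.2.2))
        fun c hc => by simp only [Function.comp_apply, hval c hc]]
      refine e.trans (List.prod_eq_one fun x hx => ?_).symm
      obtain ⟨c, hc, rfl⟩ := List.mem_map.1 hx
      exact h.X_zero (h.commTerms_lt hpi hpj (hLL ▸ hc))
    have h0 := h.prodX_inj R hsort.sortedLT (fun r hr => by
      obtain ⟨c, hc, rfl⟩ := List.mem_map.1 hr
      exact ⟨hpos c hc, h.commTerms_lt hpi hpj (hLL ▸ hc)⟩) val _ e2 q.1 List.mem_cons_self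
    rw [hval q List.mem_cons_self] at h0
    rcases hfirst with e3 | e3 <;> simp [e3] at h0

include h in
/-- `x_p` and `x_{-p}` do not commute. -/
theorem not_commute_neg {i : ℕ} (hi : i < T.l) :
    ¬ ∀ t u : F, Commute (X D (T.simple i) t) (X D (T.neg (T.simple i)) u) := by
  intro hcomm
  have hp := h.simple_lt hi
  have h1 := h.nS_conj_X (F := F) hi hp 1
  have hn : nS D F i = X D (T.simple i) 1 * X D (T.neg (T.simple i)) (-1) * X D (T.simple i) 1 := by
    simp [nS, nU, h.simple_eq hi, h.neg_eq hp]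
  have hc : Commute (nS D F i) (X D (T.simple i) 1) := by
    rw [hn]
    exact (((Commute.refl _).mul_left (hcomm 1 (-1)).symm).mul_left (Commute.refl _))
  rw [hc.eq, mul_inv_cancel_right, h.refl_simple hi] at h1
  exact h.neg_ne hp (h.root_eq_of_X_eq hp (Cert.neg_lt (T := T) hp) one_ne_zero h1).symm

end

include h in
/-- Only one element of the opposite root group moves `X_p` to `X_{-p}` in the form `x y x`. -/
theorem eq_neg_inv_of_conj {i : ℕ} (hi : i < T.l) {a b : F} (ha : a ≠ 0)
    (hab : ∀ s : F, ∃ d : F, (X D (T.simple i) a * X D (T.neg (T.simple i)) b * X D (T.simple i) a) *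
      X D (T.simple i) s * (X D (T.simple i) a * X D (T.neg (T.simple i)) b * X D (T.simple i) a)⁻¹ =
      X D (T.neg (T.simple i)) d) : b = -a⁻¹ := by
  by_contra hne
  have hp := h.simple_lt hi
  have hn := Cert.neg_lt (T := T) hp
  set P := T.simple i with hP
  set c := b + a⁻¹ with hc
  have hc0 : c ≠ 0 := fun e => hne (eq_neg_of_add_eq_zero_left e)
  have hgood : ∀ s : F, ∃ d : F, (X D P a * X D (T.neg P) (-a⁻¹) * X D P a) * X D P s *
      (X D P a * X D (T.neg P) (-a⁻¹) * X D P a)⁻¹ = X D (T.neg P) d := by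
    intro s
    have e1 := h.X_neg_simple_eq (F := F) hi (-a⁻¹)
    rw [← hP, inv_neg, inv_inv] at e1
    obtain ⟨k, -, ek⟩ := Cert.Maps_mul (h.Maps_nS (F := F) hi hp)
      (h.Maps_diagonal (h.hU_mem hp (neg_ne_zero.2 (neg_ne_zero.2 ha))) (h.refl_lt hi hp))
    refine ⟨k * s, ?_⟩
    rw [show X D (T.neg P) (k * s) = X D (T.refl i P) (k * s) by rw [hP, h.refl_simple hi], ← ek s, e1,
      ← h.X_inv hp]
    group
  have key : ∀ s : F, ∃ e : F, X D (T.neg P) c * X D P s * (X D (T.neg P) c)⁻¹ = X D P e := by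
    intro s
    -- both words send `X_p` into `X_{-p}`
    obtain ⟨d, hd⟩ := hab s
    have hd' : X D P a * X D (T.neg P) b * X D P s * (X D (T.neg P) b)⁻¹ * (X D P a)⁻¹ = X D (T.neg P) d := by
      rw [← hd]
      have : X D P a * X D P s * (X D P a)⁻¹ = X D P s := by
        rw [h.X_add hp, add_comm, ← h.X_add hp, mul_inv_cancel_right]
      calc _ = X D P a * X D (T.neg P) b * (X D P a * X D P s * (X D P a)⁻¹) *
            (X D (T.neg P) b)⁻¹ * (X D P a)⁻¹ := by rw [this]
        _ = _ := by group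
    classical
    let ψ : F → F := fun s => (hgood s).choose
    have hψ : ∀ s, X D P a * X D (T.neg P) (-a⁻¹) * X D P s * (X D (T.neg P) (-a⁻¹))⁻¹ * (X D P a)⁻¹ =
        X D (T.neg P) (ψ s) := by
      intro s
      rw [← (hgood s).choose_spec]
      have : X D P a * X D P s * (X D P a)⁻¹ = X D P s := by
        rw [h.X_add hp, add_comm, ← h.X_add hp, mul_inv_cancel_right]
      calc _ = X D P a * X D (T.neg P) (-a⁻¹) * (X D P a * X D P s * (X D P a)⁻¹) *
            (X D (T.neg P) (-a⁻¹))⁻¹ * (X D P a)⁻¹ := by rw [this]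
        _ = _ := by group
    obtain ⟨e, he⟩ : ∃ e, ψ e = d := by
      obtain ⟨k, hk, ek⟩ : ∃ k : F, k ≠ 0 ∧ ∀ s, ψ s = k * s := by
        have e1 := h.X_neg_simple_eq (F := F) hi (-a⁻¹)
        rw [← hP, inv_neg, inv_inv] at e1
        obtain ⟨k, hk, ek⟩ := Cert.Maps_mul (h.Maps_nS (F := F) hi hp)
          (h.Maps_diagonal (h.hU_mem hp (neg_ne_zero.2 (neg_ne_zero.2 ha))) (h.refl_lt hi hp))
        refine ⟨k, hk, fun s => ?_⟩
        have h2 : X D (T.neg P) (ψ s) = X D (T.neg P) (k * s) := by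
          rw [← (hgood s).choose_spec, show X D (T.neg P) (k * s) = X D (T.refl i P) (k * s) by
            rw [hP, h.refl_simple hi], ← ek s, e1, ← h.X_inv hp]
          group
        have h3 : X D (T.neg P) (ψ s - k * s) = 1 := by
          rw [sub_eq_add_neg, ← h.X_add hn, h2, h.X_add hn, add_neg_cancel, h.X_zero hn]
        exact sub_eq_zero.1 ((h.X_eq_one_iff hn _).1 h3)
      exact ⟨k⁻¹ * d, by rw [ek, mul_inv_cancel_left₀ hk]⟩
    refine ⟨e, ?_⟩
    have h2 := hψ e
    rw [he, ← hd'] at h2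
    rw [hc, ← h.X_add hn, show X D (T.neg P) a⁻¹ = (X D (T.neg P) (-a⁻¹))⁻¹ by rw [h.X_inv hn, neg_neg]]
    have hswap : X D (T.neg P) b * (X D (T.neg P) (-a⁻¹))⁻¹ = (X D (T.neg P) (-a⁻¹))⁻¹ * X D (T.neg P) b := by
      rw [h.X_inv hn, h.X_add hn, h.X_add hn, add_comm]
    rw [hswap]
    have h4 : X D (T.neg P) b * X D P s * (X D (T.neg P) b)⁻¹ =
        X D (T.neg P) (-a⁻¹) * X D P e * (X D (T.neg P) (-a⁻¹))⁻¹ := by
      calc _ = (X D P a)⁻¹ * (X D P a * X D (T.neg P) b * X D P s * (X D (T.neg P) b)⁻¹ * (X D P a)⁻¹) * X D P a := by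
              group
        _ = _ := by rw [← h2]; group
    calc _ = (X D (T.neg P) (-a⁻¹))⁻¹ * (X D (T.neg P) b * X D P s * (X D (T.neg P) b)⁻¹) * X D (T.neg P) (-a⁻¹) := by
          group
      _ = _ := by rw [h4]; group
  -- so `x_{-p}(c)` would normalise `X_p`
  have e1 := h.X_neg_simple_eq (F := F) hi c
  rw [← hP] at e1
  obtain ⟨e, he⟩ := key 1
  obtain ⟨k, hk, ek⟩ := Cert.Maps_mul (h.Maps_nS (F := F) hi hp)
    (h.Maps_diagonal (h.hU_mem hp (neg_ne_zero.2 (inv_ne_zero hc0))) (h.refl_lt hi hp))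
  have h3 : hU D P (-c⁻¹) * nS D F i * X D P 1 * (hU D P (-c⁻¹) * nS D F i)⁻¹ = X D P e := by
    have hsh : ∀ z y : F, X D P z * X D P y * (X D P z)⁻¹ = X D P y := fun z y => by
      rw [h.X_add hp, add_comm, ← h.X_add hp, mul_inv_cancel_right]
    rw [e1] at he
    calc _ = (X D P c⁻¹)⁻¹ * ((X D P c⁻¹ * (hU D P (-c⁻¹) * nS D F i) * X D P c⁻¹) * X D P 1 *
          (X D P c⁻¹ * (hU D P (-c⁻¹) * nS D F i) * X D P c⁻¹)⁻¹) * X D P c⁻¹ := by
            have := hsh c⁻¹ 1
            calc _ = hU D P (-c⁻¹) * nS D F i * (X D P c⁻¹ * X D P 1 * (X D P c⁻¹)⁻¹) *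
                  (hU D P (-c⁻¹) * nS D F i)⁻¹ := by rw [this]
              _ = _ := by group
      _ = (X D P c⁻¹)⁻¹ * X D P e * X D P c⁻¹ := by rw [he]
      _ = _ := by have h4 := hsh (-c⁻¹) e; rw [← h.X_inv hp, inv_inv] at h4; exact h4
  rw [ek, hP, h.refl_simple hi] at h3
  exact h.neg_ne hp (h.root_eq_of_X_eq hn hp (a := k * 1) (by simpa using hk) h3)

section
variable {w : List ℕ} (hw : oppOK T w = true) (hp2 : pairsOK T = true)

include h hw hp2 in
/-- The action on the simple root elements. -/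
theorem exists_params [Finite F] {α : MulAut ↥(D.group F)} (hα : α ∈ stab D F) :
    ∃ (σ : Fin T.l → Fin T.l) (g : Fin T.l → (F ≃+* F)) (c : Fin T.l → Fˣ), Function.Bijective σ ∧
      (∀ (i : Fin T.l) (t : F) (x : ↥(D.group F)), (x : GL D.Idx F) = X D (T.simple i) t →
        (α x : GL D.Idx F) = X D (T.simple (σ i)) (c i * g i t)) ∧
      (∀ (i : Fin T.l) (t : F) (x : ↥(D.group F)), (x : GL D.Idx F) = X D (T.neg (T.simple i)) t →
        (α x : GL D.Idx F) = X D (T.neg (T.simple (σ i))) ((c i : F)⁻¹ * g i t)) ∧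
      (∀ i j : Fin T.l, (T.car i (T.simple j) = 0 ↔ T.car (σ i) (T.simple (σ j)) = 0)) ∧
      ∀ (i j : Fin T.l) (t : F), t ≠ 0 →
        g j (t ^ T.car i (T.simple j)) = g i t ^ T.car (σ i) (T.simple (σ j)) := by
  classical
  choose p hpl hp using fun (i : Fin T.l) => perm_pos h hw hα i.2
  choose q hql hq using fun (i : Fin T.l) => perm_neg h hw hα i.2
  have hsl : ∀ i : Fin T.l, T.simple i.1 < T.n := fun i => h.simple_lt i.2
  have hnl : ∀ i : Fin T.l, T.neg (T.simple i.1) < T.n := fun i => Cert.neg_lt (T := T) (hsl i)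
  have hfwd : ∀ (i : Fin T.l) (t : F), ∃ s, (α (xE h (hsl i) t) : GL D.Idx F) = X D (T.simple (p i)) s := fun i t =>
    (mem_rG h (h.simple_lt (hpl i))).1 (hp i ▸ Subgroup.mem_map_of_mem _ ((mem_rG h (hsl i)).2 ⟨t, rfl⟩))
  have hbwd : ∀ (i : Fin T.l) (t : F), ∃ s, (α (xE h (hnl i) t) : GL D.Idx F) = X D (T.neg (T.simple (q i))) s :=
    fun i t => (mem_rG h (Cert.neg_lt (T := T) (h.simple_lt (hql i)))).1
      (hq i ▸ Subgroup.mem_map_of_mem _ ((mem_rG h (hnl i)).2 ⟨t, rfl⟩))
  choose f hf using hfwd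
  choose fn hfn using hbwd
  -- the two permutations agree
  have hpq : ∀ i, p i = q i := by
    intro i
    by_contra hne
    refine not_commute_neg (F := F) h i.2 fun t u => ?_
    have h1 := (pair_facts h hp2 (hpl i) (hql i) hne).1 (f i t) (fn i u)
    rw [← hf, ← hfn] at h1
    have h2 : Commute (α (xE h (hsl i) t)) (α (xE h (hnl i) u)) := Subtype.ext h1
    have h3 : Commute (xE h (hsl i) t) (xE h (hnl i) u) := by
      have := h2.map α.symm.toMonoidHom
      simpa using this
    exact congrArg Subtype.val h3.eq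
  -- scalars
  have hinjX : ∀ {r : ℕ}, r < T.n → ∀ {a b : F}, X D r a = X D r b → a = b := by
    intro r hr a b e
    have h3 : X D r (a - b) = 1 := by rw [sub_eq_add_neg, ← h.X_add hr, e, h.X_add hr, add_neg_cancel, h.X_zero hr]
    exact sub_eq_zero.1 ((h.X_eq_one_iff hr _).1 h3)
  have hxm : ∀ {r : ℕ} (hr : r < T.n) (a b : F), xE h hr a * xE h hr b = xE h hr (a + b) := fun hr a b =>
    Subtype.ext (h.X_add hr a b)
  have hadd : ∀ i a b, f i (a + b) = f i a + f i b := fun i a b => hinjX (h.simple_lt (hpl i)) (by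
    rw [← hf, ← hxm, map_mul, Subgroup.coe_mul, hf, hf, h.X_add (h.simple_lt (hpl i))])
  have hf0 : ∀ i, f i 0 = 0 := fun i => by simpa using hadd i 0 0
  have hnegf : ∀ i a, f i (-a) = -f i a := fun i a => eq_neg_of_add_eq_zero_left (by rw [← hadd, neg_add_cancel, hf0])
  have hfinj : ∀ i, Function.Injective (f i) := fun i a b e => hinjX (hsl i) (congrArg Subtype.val
    (α.injective (a₁ := xE h (hsl i) a) (a₂ := xE h (hsl i) b) (Subtype.ext (by rw [hf, hf, e]))))
  have hne0 : ∀ i t, t ≠ 0 → f i t ≠ 0 := fun i t ht e => ht (hfinj i (e.trans (hf0 i).symm))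
  -- the values on `X_{-p}`
  have hrec : ∀ i (t : F), t ≠ 0 → fn i (-t⁻¹) = -(f i t)⁻¹ := by
    intro i t ht
    refine eq_neg_inv_of_conj h (hpl i) (hne0 i t ht) fun s => ?_
    obtain ⟨s', rfl⟩ := Finite.injective_iff_surjective.1 (hfinj i) s
    set N := xE h (hsl i) t * xE h (hnl i) (-t⁻¹) * xE h (hsl i) t with hN
    obtain ⟨d, hd⟩ : ∃ d, N * xE h (hsl i) s' * N⁻¹ = xE h (hnl i) d := by
      have e1 := h.X_neg_simple_eq (F := F) i.2 (-t⁻¹)
      rw [inv_neg, inv_inv] at e1
      obtain ⟨k, -, ek⟩ := Cert.Maps_mul (h.Maps_nS (F := F) i.2 (hsl i))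
        (h.Maps_diagonal (h.hU_mem (hsl i) (neg_ne_zero.2 (neg_ne_zero.2 ht))) (h.refl_lt i.2 (hsl i)))
      refine ⟨k * s', Subtype.ext ?_⟩
      show X D (T.simple i.1) t * X D (T.neg (T.simple i.1)) (-t⁻¹) * X D (T.simple i.1) t * X D (T.simple i.1) s' *
        (X D (T.simple i.1) t * X D (T.neg (T.simple i.1)) (-t⁻¹) * X D (T.simple i.1) t)⁻¹ =
        X D (T.neg (T.simple i.1)) (k * s')
      rw [show X D (T.neg (T.simple i.1)) (k * s') = X D (T.refl i.1 (T.simple i.1)) (k * s') by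
        rw [h.refl_simple i.2], ← ek s', e1, ← h.X_inv (hsl i)]
      group
    have h2 := congrArg (fun y : ↥(D.group F) => (α y : GL D.Idx F)) hd
    simp only [hN, map_mul, map_inv, Subgroup.coe_mul, Subgroup.coe_inv, hf, hfn, ← hpq] at h2
    exact ⟨_, h2⟩
  -- the torus
  have hnU : ∀ i (t : F), t ≠ 0 → (α (nE h (hsl i) t) : GL D.Idx F) =
      nU D (T.simple (p i)) (f i t) := by
    intro i t ht
    have e : nE h (hsl i) t =
        xE h (hsl i) t * xE h (hnl i) (-t⁻¹) * xE h (hsl i) t :=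
      Subtype.ext (by simp [nE, nU, h.neg_eq (hsl i), xE])
    rw [e]
    simp only [map_mul, Subgroup.coe_mul, hf, hfn, hrec i t ht, ← hpq]
    simp [nU, h.neg_eq (h.simple_lt (hpl i))]
  have htor : ∀ (i j : Fin T.l) (t : F), t ≠ 0 → ∀ u : F, f j (t ^ T.car i.1 (T.simple j.1) * u) =
      (f i t / f i 1) ^ T.car (p i) (T.simple (p j)) * f j u := by
    intro i j t ht u
    have hi := hsl i
    have hconj : ∀ {k : ℕ}, k < T.l → ∀ {r : ℕ}, r < T.n → ∀ {a : F}, a ≠ 0 → ∀ v : F,
        hU D (T.simple k) a * X D r v * (hU D (T.simple k) a)⁻¹ = X D r (a ^ T.car k r * v) := by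
      intro k hk r hr a ha v
      rw [mul_inv_eq_iff_eq_mul]
      refine Units.ext ?_
      rw [Units.val_mul, Units.val_mul, h.coe_hU, h.coe_X, h.coe_X, h.hMat_mul_x (h.simple_lt hk) ha hr,
        h.pairing_simple hk]
    let M : ↥(D.group F) := nE h hi t * nE h hi (-1)
    have hM : (M : GL D.Idx F) = hU D (T.simple i.1) t := rfl
    have hαM : (α M : GL D.Idx F) = hU D (T.simple (p i)) (f i t / f i 1) := by
      show (α (_ * _) : GL D.Idx F) = _
      have hpk := h.simple_lt (hpl i)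
      rw [map_mul, Subgroup.coe_mul, hnU i t ht, hnU i (-1) (neg_ne_zero.2 one_ne_zero), hnegf]
      have e : ∀ a : F, nU D (T.simple (p i)) a = hU D (T.simple (p i)) a * (nU D (T.simple (p i)) (-1 : F))⁻¹ := by
        intro a; simp [hU]
      rw [e (f i t), e (-f i 1)]
      have hu1 : (nU D (T.simple (p i)) (-1 : F))⁻¹ * (hU D (T.simple (p i)) (-f i 1) *
          (nU D (T.simple (p i)) (-1 : F))⁻¹) = (hU D (T.simple (p i)) (f i 1))⁻¹ := by
        have hinv : (nU D (T.simple (p i)) (f i 1))⁻¹ = nU D (T.simple (p i)) (-f i 1) := by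
          refine inv_eq_of_mul_eq_one_right ?_
          simp only [nU, inv_neg, neg_neg]
          calc _ = X D (T.simple (p i)) (f i 1) * X D (D.neg (T.simple (p i))) (-(f i 1)⁻¹) *
                (X D (T.simple (p i)) (f i 1) * X D (T.simple (p i)) (-f i 1)) *
                X D (D.neg (T.simple (p i))) (f i 1)⁻¹ * X D (T.simple (p i)) (-f i 1) := by group
            _ = _ := by
              rw [h.X_add hpk, add_neg_cancel, h.X_zero hpk, mul_one, mul_assoc (X D (T.simple (p i)) (f i 1)),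
                h.neg_eq hpk, h.X_add (Cert.neg_lt (T := T) hpk), neg_add_cancel,
                h.X_zero (Cert.neg_lt (T := T) hpk), mul_one, h.X_add hpk, add_neg_cancel, h.X_zero hpk]
        rw [← e (-f i 1), ← hinv, ← _root_.mul_inv_rev]
        rfl
      rw [mul_assoc, hu1, mul_inv_eq_iff_eq_mul,
        h.hU_mul hpk (div_ne_zero (hne0 i t ht) (hne0 i 1 one_ne_zero)) (hne0 i 1 one_ne_zero),
        div_mul_cancel₀ _ (hne0 i 1 one_ne_zero)]
    have e1 : M * xE h (hsl j) u * M⁻¹ = xE h (hsl j) (t ^ T.car i.1 (T.simple j.1) * u) :=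
      Subtype.ext (by
        show (M : GL D.Idx F) * X D _ u * (M : GL D.Idx F)⁻¹ = _
        rw [hM]; exact hconj i.2 (hsl j) ht u)
    have e2 := congrArg (fun y : ↥(D.group F) => (α y : GL D.Idx F)) e1
    simp only [map_mul, map_inv, Subgroup.coe_mul, Subgroup.coe_inv, hf, hαM] at e2
    rw [hconj (hpl i) (h.simple_lt (hpl j)) (div_ne_zero (hne0 i t ht) (hne0 i 1 one_ne_zero))] at e2
    exact (hinjX (h.simple_lt (hpl j)) e2).symm
  have hcar2 : ∀ i : Fin T.l, T.car i.1 (T.simple i.1) = 2 := fun i => (h.simple_spec i.2).2.2.1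
  let g : Fin T.l → F → F := fun i t => f i t / f i 1
  have hg1 : ∀ i, g i 1 = 1 := fun i => div_self (hne0 i 1 one_ne_zero)
  have hgadd : ∀ i a b, g i (a + b) = g i a + g i b := fun i a b => by simp only [g, hadd, add_div]
  have hgmul : ∀ i a b, g i (a * b) = g i a * g i b := fun i => mul_of_sq (hgadd i) (hg1 i) fun t ht u => by
    have := htor i i t ht u
    rw [hcar2, (h.simple_spec (hpl i)).2.2.1] at this
    norm_cast at this
    simp only [g, this]
    ring
  have hgbij : ∀ i, Function.Bijective (g i) := fun i => by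
    have hi : Function.Injective (g i) := fun a b e => hfinj i ((div_left_inj' (hne0 i 1 one_ne_zero)).1 e)
    exact ⟨hi, Finite.injective_iff_surjective.1 hi⟩
  let σ : Fin T.l → Fin T.l := fun i => ⟨p i, hpl i⟩
  let gE : Fin T.l → (F ≃+* F) := fun i =>
    { Equiv.ofBijective (g i) (hgbij i) with
      map_mul' := hgmul i
      map_add' := hgadd i }
  have hσinj : Function.Injective σ := by
    intro i j e
    have e' : p i = p j := congrArg Fin.val e
    have h1 : (rG D F (T.simple i.1)).map α.toMonoidHom = (rG D F (T.simple j.1)).map α.toMonoidHom := by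
      rw [hp i, hp j, e']
    have h2 := Subgroup.map_injective (f := α.toMonoidHom) α.injective h1
    have h3 : xE h (hsl i) (1 : F) ∈ rG D F (T.simple j.1) := h2 ▸ (mem_rG h (hsl i)).2 ⟨1, rfl⟩
    obtain ⟨t, ht⟩ := (mem_rG h (hsl j)).1 h3
    have h4 := h.root_eq_of_X_eq (hsl i) (hsl j) one_ne_zero ht
    have h5 := (h.simple_spec i.2).2.2.2 i.1 i.2
    rw [h4, (h.simple_spec j.2).2.2.2 i.1 i.2, if_pos rfl] at h5
    split_ifs at h5 with hij
    · exact Fin.ext hij.symm
    · simp at h5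
  refine ⟨σ, gE, fun i => Units.mk0 (f i 1) (hne0 i 1 one_ne_zero), ⟨hσinj, Finite.injective_iff_surjective.1 hσinj⟩,
    fun i t x hx => ?_, fun i t x hx => ?_, fun i j => ?_, fun i j t ht => ?_⟩
  · rw [show x = xE h (hsl i) t from Subtype.ext hx, hf]
    congr 1
    show f i t = f i 1 * (f i t / f i 1)
    rw [mul_div_cancel₀ _ (hne0 i 1 one_ne_zero)]
  · rw [show x = xE h (hnl i) t from Subtype.ext hx, hfn, ← hpq]
    congr 1
    show fn i t = (f i 1)⁻¹ * g i t
    by_cases ht : t = 0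
    · have h0 : fn i 0 = 0 := hinjX (Cert.neg_lt (T := T) (h.simple_lt (hql i))) (by
        rw [← hfn, show xE h (hnl i) (0 : F) = 1 from Subtype.ext (h.X_zero (hnl i)), map_one,
          h.X_zero (Cert.neg_lt (T := T) (h.simple_lt (hql i)))]; rfl)
      rw [ht, h0]
      simp [g, hf0]
    · have h1 := hrec i (-t⁻¹) (neg_ne_zero.2 (inv_ne_zero ht))
      rw [inv_neg, inv_inv, neg_neg] at h1
      rw [h1, hnegf, inv_neg, neg_neg]
      have hg : g i t⁻¹ * g i t = 1 := by rw [← hgmul, inv_mul_cancel₀ ht, hg1]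
      have hg' : f i t⁻¹ * g i t = f i 1 := by
        have := congrArg (fun z => f i 1 * z) hg
        simp only [mul_one, g] at this ⊢
        rwa [← mul_assoc, mul_div_cancel₀ _ (hne0 i 1 one_ne_zero)] at this
      rw [eq_comm, inv_mul_eq_iff_eq_mul₀ (hne0 i 1 one_ne_zero), ← hg', mul_right_comm,
        mul_inv_cancel₀ (hne0 i _ (inv_ne_zero ht)), one_mul]
  · show T.car i.1 (T.simple j.1) = 0 ↔ T.car (p i) (T.simple (p j)) = 0
    rcases eq_or_ne i j with rfl | hij
    · rw [hcar2, (h.simple_spec (hpl i)).2.2.1]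
    have hpne : p i ≠ p j := fun e => hij (hσinj (Fin.ext e))
    have hne : i.1 ≠ j.1 := fun e => hij (Fin.ext e)
    constructor
    · intro h0
      by_contra h1
      refine (pair_facts (F := F) h hp2 (hpl i) (hpl j) hpne).2.2 h1 ?_
      obtain ⟨a, ha⟩ := Finite.injective_iff_surjective.1 (hfinj i) (1 : F)
      obtain ⟨b, hb⟩ := Finite.injective_iff_surjective.1 (hfinj j) (1 : F)
      have hc : Commute (xE h (hsl i) a) (xE h (hsl j) b) :=
        Subtype.ext ((pair_facts h hp2 i.2 j.2 hne).2.1 h0 a b).eq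
      have hc' := congrArg Subtype.val (hc.map α.toMonoidHom).eq
      simp only [Subgroup.coe_mul, MulEquiv.coe_toMonoidHom, hf, ha, hb] at hc'
      exact hc'
    · intro h0
      by_contra h1
      refine (pair_facts (F := F) h hp2 i.2 j.2 hne).2.2 h1 ?_
      have h2 := (pair_facts h hp2 (hpl i) (hpl j) hpne).2.1 h0 (f i 1) (f j 1)
      rw [← hf, ← hf] at h2
      have h3 : Commute (α (xE h (hsl i) 1)) (α (xE h (hsl j) 1)) := Subtype.ext h2.eq
      have := h3.map α.symm.toMonoidHom
      simp only [MulEquiv.coe_toMonoidHom, MulEquiv.symm_apply_apply] at this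
      exact congrArg Subtype.val this.eq
  · show g j (t ^ T.car i.1 (T.simple j.1)) = g i t ^ T.car (p i) (T.simple (p j))
    have := htor i j t ht 1
    rw [mul_one] at this
    simp only [g, this, mul_div_assoc, div_self (hne0 j 1 one_ne_zero), mul_one]

end

end CfsgLib.ChevAut
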