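/-
Automorphisms of Chevalley groups from permutations of the roots compatible with the commutator formula.
-/
import Mathlib
import Cfsg.Agent.Lib.Chev.StPresent
import Cfsg.Agent.Lib.Chev.StUniversal
import Cfsg.Agent.Lib.Chev.CharacterAut
import Cfsg.Agent.Lib.Chev.StKernel

set_option autoImplicit false
set_option linter.unusedSectionVars false

open Cfsg Cfsg.Lie CfsgLib.Chev

namespace CfsgLib.ChevAut

/-- A candidate permutation of roots with signs and exponents, valid when `p = 0` in the field. -/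
structure RootMap where
  /-- the permutation -/
  img : List ℕ
  /-- the signs -/
  sgn : List ℤ
  /-- the exponents -/
  expo : List ℕ
  /-- the characteristic, or `0` for any -/
  modp : ℕ

namespace RootMap

variable (R : RootMap)

/-- Image of a root. -/
def ρ (r : ℕ) : ℕ := R.img.getD r 0

/-- Sign at a root. -/
def ε (r : ℕ) : ℤ := R.sgn.getD r 1

/-- Exponent at a root. -/
def e (r : ℕ) : ℕ := R.expo.getD r 1

/-- The terms which do not vanish modulo `p`. -/
noncomputable def terms (T : Tab) (r s : ℕ) : List (ℕ × ℤ × ℕ × ℕ) :=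
  ((T.commTerms r s).map fun q => (q.1, q.2.1 % (R.modp : ℤ), q.2.2.1, q.2.2.2)).filter fun q => q.2.1 != 0

/-- The image of the right-hand side. -/
noncomputable def lhsTerms (T : Tab) (r s : ℕ) : List (ℕ × ℤ × ℕ × ℕ) :=
  (R.terms T r s).map fun q =>
    (R.ρ q.1, (R.ε q.1 * q.2.1 ^ R.e q.1 * (-1) ^ (q.2.2.1 * R.e q.1)) % (R.modp : ℤ),
      q.2.2.1 * R.e q.1, q.2.2.2 * R.e q.1)

/-- The right-hand side at the images. -/
noncomputable def rhsTerms (T : Tab) (r s : ℕ) : List (ℕ × ℤ × ℕ × ℕ) :=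
  (R.terms T (R.ρ r) (R.ρ s)).map fun q =>
    (q.1, (q.2.1 * (-R.ε r) ^ q.2.2.1 * R.ε s ^ q.2.2.2) % (R.modp : ℤ), q.2.2.1 * R.e r, q.2.2.2 * R.e s)

/-- Two roots whose elements commute. -/
noncomputable def commOK (T : Tab) (a b : ℕ) : Bool :=
  decide (a = b) || (decide (b ≠ T.neg a) && (R.terms T a b).isEmpty)

/-- The permutation is compatible with one pair. -/
noncomputable def pairOK (T : Tab) (r s : ℕ) : Bool :=
  decide (s = r) || decide (s = T.neg r) ||
    (decide (R.ρ s ≠ R.ρ r) && decide (R.ρ s ≠ T.neg (R.ρ r)) && (R.lhsTerms T r s).isPerm (R.rhsTerms T r s) &&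
      (R.rhsTerms T r s).all fun a => (R.rhsTerms T r s).all fun b => R.commOK T a.1 b.1)

/-- Every check. -/
noncomputable def ok (T : Tab) : Bool :=
  (List.range T.n).all fun r => decide (R.ρ r < T.n) && decide (1 ≤ R.e r) && decide (R.ε r = 1 ∨ R.ε r = -1) &&
    (List.range T.n).all fun s => R.pairOK T r s

variable {R}
variable {D : ChevalleyDatum} {T : Tab} {C : Tab.Cover} (h : Cert D T C) {F : Type*} [Field F]

theorem emod_cast {p : ℕ} (hp : (p : F) = 0) (c : ℤ) : ((c % (p : ℤ) : ℤ) : F) = (c : F) := by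
  conv_rhs => rw [← Int.emod_add_mul_ediv c p]
  push_cast
  rw [hp, zero_mul, add_zero]

include h in
/-- A filtered product of root elements. -/
theorem prod_terms (hp : (R.modp : F) = 0) (L : List (ℕ × ℤ × ℕ × ℕ)) (hL : ∀ q ∈ L, q.1 < T.n) (t u : F) :
    ((((L.map fun q => (q.1, q.2.1 % (R.modp : ℤ), q.2.2.1, q.2.2.2)).filter fun q => q.2.1 != 0)).map fun c =>
        X D c.1 ((c.2.1 : F) * t ^ c.2.2.1 * u ^ c.2.2.2)).prod =
      (L.map fun c => X D c.1 ((c.2.1 : F) * t ^ c.2.2.1 * u ^ c.2.2.2)).prod := by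
  induction L with
  | nil => rfl
  | cons a L ih =>
    have hih := ih fun q hq => hL q (List.mem_cons_of_mem _ hq)
    by_cases ha : a.2.1 % (R.modp : ℤ) = 0
    · have h0 : (a.2.1 : F) = 0 := by rw [← emod_cast hp, ha, Int.cast_zero]
      rw [List.map_cons, List.filter_cons_of_neg (by simp [ha]), hih, List.map_cons, List.prod_cons, h0,
        zero_mul, zero_mul, h.X_zero (hL a List.mem_cons_self), one_mul]
    · rw [List.map_cons, List.filter_cons_of_pos (by simp [ha]), List.map_cons, List.prod_cons, hih,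
        List.map_cons, List.prod_cons, emod_cast hp]

variable (R) in
/-- The exponents are additive. -/
def Additive (T : Tab) (F : Type*) [Field F] : Prop :=
  ∀ r < T.n, ∀ a b : F, (a + b) ^ R.e r = a ^ R.e r + b ^ R.e r

theorem ok_spec (hok : R.ok T = true) {r : ℕ} (hr : r < T.n) :
    R.ρ r < T.n ∧ 1 ≤ R.e r ∧ (R.ε r = 1 ∨ R.ε r = -1) ∧ ∀ s < T.n, R.pairOK T r s = true := by
  simp only [ok, List.all_eq_true, List.mem_range, Bool.and_eq_true, decide_eq_true_eq] at hok
  obtain ⟨⟨⟨a, b⟩, c⟩, d⟩ := hok r hr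
  exact ⟨a, b, c, d⟩

include h in
theorem commute_of_commOK (hp : (R.modp : F) = 0) {a b : ℕ} (ha : a < T.n) (hb : b < T.n)
    (hc : R.commOK T a b = true) (x y : F) : Commute (X D a x) (X D b y) := by
  simp only [commOK, Bool.or_eq_true, Bool.and_eq_true, decide_eq_true_eq, List.isEmpty_iff] at hc
  rcases eq_or_ne a b with rfl | hab
  · rw [Commute, SemiconjBy, h.X_add ha, h.X_add ha, add_comm]
  obtain ⟨hneg, hterms⟩ := hc.resolve_left hab
  have e := h.X_conj ha hb hab.symm hneg x y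
  rw [← prod_terms h hp _ (fun q hq => h.commTerms_lt ha hb hq) (-x) y,
    show ((T.commTerms a b).map fun q => (q.1, q.2.1 % (R.modp : ℤ), q.2.2.1, q.2.2.2)).filter
      (fun q => q.2.1 != 0) = [] from hterms, List.map_nil, List.prod_nil, mul_one] at e
  rw [← h.X_inv ha, mul_assoc, inv_mul_eq_iff_eq_mul] at e
  exact e.symm

include h in
/-- The images satisfy the commutator formula. -/
theorem image_conj (hp : (R.modp : F) = 0) (hok : R.ok T = true) (hadd : R.Additive T F) {r s : ℕ}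
    (hr : r < T.n) (hs : s < T.n) (hne : s ≠ r) (hneg : s ≠ T.neg r) (t u : F) :
    X D (R.ρ r) ((R.ε r : F) * (-t) ^ R.e r) * X D (R.ρ s) ((R.ε s : F) * u ^ R.e s) *
        X D (R.ρ r) ((R.ε r : F) * t ^ R.e r) =
      X D (R.ρ s) ((R.ε s : F) * u ^ R.e s) * ((T.commTerms r s).map fun c =>
        X D (R.ρ c.1) ((R.ε c.1 : F) * ((c.2.1 : F) * (-t) ^ c.2.2.1 * u ^ c.2.2.2) ^ R.e c.1)).prod := by
  obtain ⟨hrn, her, -, hpair⟩ := ok_spec hok hr
  obtain ⟨hsn, hes, -, -⟩ := ok_spec hok hs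
  have hP := hpair s hs
  simp only [pairOK, Bool.or_eq_true, Bool.and_eq_true, decide_eq_true_eq, List.all_eq_true] at hP
  obtain ⟨⟨⟨hne', hneg'⟩, hperm⟩, hcomm⟩ := hP.resolve_left (not_or.mpr ⟨hne, hneg⟩)
  rw [List.isPerm_iff] at hperm
  have hnegpow : (-t) ^ R.e r = -(t ^ R.e r) := by
    have h1 := hadd r hr t (-t)
    rw [add_neg_cancel, zero_pow (by omega)] at h1
    linear_combination -h1
  rw [hnegpow, mul_neg, h.X_conj hrn hsn hne' hneg']
  congr 1
  rw [← prod_terms h hp _ (fun q hq => h.commTerms_lt hrn hsn hq)]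
  set f : ℕ × ℤ × ℕ × ℕ → GL D.Idx F :=
    fun c => X D c.1 ((c.2.1 : F) * t ^ c.2.2.1 * u ^ c.2.2.2) with hf
  have h2 : (R.terms T (R.ρ r) (R.ρ s)).map (fun c => X D c.1 ((c.2.1 : F) *
      (-((R.ε r : F) * t ^ R.e r)) ^ c.2.2.1 * ((R.ε s : F) * u ^ R.e s) ^ c.2.2.2)) = (R.rhsTerms T r s).map f := by
    rw [rhsTerms, List.map_map]
    refine List.map_congr_left fun c _ => ?_
    simp only [hf, Function.comp_apply, emod_cast hp, Int.cast_mul, Int.cast_pow, Int.cast_neg]
    congr 1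
    rw [show -((R.ε r : F) * t ^ R.e r) = (-(R.ε r : F)) * t ^ R.e r by ring, mul_pow, mul_pow,
      ← pow_mul, ← pow_mul, mul_comm c.2.2.1 (R.e r), mul_comm c.2.2.2 (R.e s)]
    ring
  have h3 : ((T.commTerms r s).map fun c =>
      X D (R.ρ c.1) ((R.ε c.1 : F) * ((c.2.1 : F) * (-t) ^ c.2.2.1 * u ^ c.2.2.2) ^ R.e c.1)).prod =
      ((R.lhsTerms T r s).map f).prod := by
    rw [lhsTerms, List.map_map]
    have hlt : ∀ q ∈ T.commTerms r s, q.1 < T.n := fun q hq => h.commTerms_lt hr hs hq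
    clear_value f
    subst hf
    rw [terms]
    generalize T.commTerms r s = L at hlt ⊢
    induction L with
    | nil => rfl
    | cons a L ih =>
      have hih := ih fun q hq => hlt q (List.mem_cons_of_mem _ hq)
      obtain ⟨han, hae, -, -⟩ := ok_spec hok (hlt a List.mem_cons_self)
      by_cases ha : a.2.1 % (R.modp : ℤ) = 0
      · have h0 : (a.2.1 : F) = 0 := by rw [← emod_cast hp, ha, Int.cast_zero]
        rw [List.map_cons, List.prod_cons, h0, zero_mul, zero_mul, zero_pow (by omega), mul_zero,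
          h.X_zero han, one_mul, hih, List.map_cons, List.filter_cons_of_neg (by simp [ha])]
      · rw [List.map_cons, List.prod_cons, hih, List.map_cons, List.filter_cons_of_pos (by simp [ha]),
          List.map_cons, List.prod_cons]
        congr 1
        simp only [Function.comp_apply, emod_cast hp, Int.cast_mul, Int.cast_pow, Int.cast_neg, Int.cast_one]
        congr 1
        rw [mul_pow, mul_pow, neg_pow t, mul_pow, ← pow_mul, ← pow_mul, ← pow_mul]
        ring
  change ((R.terms T (R.ρ r) (R.ρ s)).map _).prod = _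
  rw [h2, h3]
  refine ((hperm.map f).symm.prod_eq' (List.pairwise_of_forall_mem_list ?_)).symm.symm
  intro a ha b hb
  obtain ⟨qa, hqa, rfl⟩ := List.mem_map.1 ha
  obtain ⟨qb, hqb, rfl⟩ := List.mem_map.1 hb
  have hlt : ∀ q ∈ R.rhsTerms T r s, q.1 < T.n := by
    intro q hq
    obtain ⟨c, hc, rfl⟩ := List.mem_map.1 hq
    obtain ⟨c', hc', rfl⟩ := List.mem_map.1 (List.mem_filter.1 hc).1
    exact h.commTerms_lt hrn hsn (q := c') hc'
  exact commute_of_commOK h hp (hlt _ hqa) (hlt _ hqb) (hcomm _ hqa _ hqb) _ _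

end RootMap

open RootMap

variable {D : ChevalleyDatum} {T : Tab} {C : Tab.Cover} (h : Cert D T C) {F : Type*} [Field F] [Finite F]

include h in
/-- A compatible permutation of the roots gives an automorphism. -/
theorem exists_rootAut (hnb : Rel.Nbr T) (R : RootMap) (hp : (R.modp : F) = 0) (hok : R.ok T = true)
    (hadd : R.Additive T F)
    (hsimple : ∀ i < T.l, ∃ j < T.l, R.ρ (T.simple j) = T.simple i ∧
      R.ρ (T.neg (T.simple j)) = T.neg (T.simple i)) :
    ∃ φ : ↥(D.group F) ≃* ↥(D.group F), ∀ r < T.n, ∀ (t : F) (x : ↥(D.group F)),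
      (x : GL D.Idx F) = X D r t → (φ x : GL D.Idx F) = X D (R.ρ r) ((R.ε r : F) * t ^ R.e r) := by
  classical
  have hlt : ∀ p : Fin D.nroots, p.val < T.n := fun p => lt_of_lt_of_eq p.isLt h.nroots_eq
  let f : Fin D.nroots × F → ↥(D.group F) := fun p =>
    ⟨X D (R.ρ p.1.val) ((R.ε p.1.val : F) * p.2 ^ R.e p.1.val),
      h.X_mem_group (ok_spec hok (hlt p.1)).1 _⟩
  have hst : ∀ r, r < T.n → ∀ t, (FreeGroup.lift f (D.stX r t) : GL D.Idx F) =
      X D (R.ρ r) ((R.ε r : F) * t ^ R.e r) := fun r hr t => by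
    rw [ChevalleyDatum.stX, dif_pos (by rw [h.nroots_eq]; exact hr), FreeGroup.lift_apply_of]
  have hrel : ∀ g ∈ D.steinbergRelsAB F, FreeGroup.lift f g = 1 := by
    rintro g (⟨r, t₁, t₂, hr, rfl⟩ | ⟨r, s, t, u, hr, hs, hne, hneg, rfl⟩)
    · rw [h.nroots_eq] at hr
      refine Subtype.ext ?_
      simp only [map_mul, map_inv, Subgroup.coe_mul, Subgroup.coe_inv, Subgroup.coe_one, hst r hr]
      rw [h.X_add (ok_spec hok hr).1, ← mul_add, ← hadd r hr, mul_inv_cancel]
    · rw [h.nroots_eq] at hr hs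
      rw [h.neg_eq hr] at hneg
      refine Subtype.ext ?_
      obtain ⟨hrn, her, -, -⟩ := ok_spec hok hr
      have e := image_conj h hp hok hadd hr hs hne hneg t u
      have hw : (FreeGroup.lift f (D.stWord (D.commWord F r s t u)) : GL D.Idx F) = ((T.commTerms r s).map fun c =>
          X D (R.ρ c.1) ((R.ε c.1 : F) * ((c.2.1 : F) * (-t) ^ c.2.2.1 * u ^ c.2.2.2) ^ R.e c.1)).prod := by
        rw [ChevalleyDatum.stWord, map_list_prod, ChevalleyDatum.commWord, h.commTerms_eq hr hs, List.map_map,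
          List.map_map, ← Subgroup.coe_subtype, map_list_prod, List.map_map]
        exact congrArg List.prod (List.map_congr_left fun c hc => hst _ (h.commTerms_lt hr hs hc) _)
      have hinv : (X D (R.ρ r) ((R.ε r : F) * t ^ R.e r))⁻¹ = X D (R.ρ r) ((R.ε r : F) * (-t) ^ R.e r) := by
        have h1 := hadd r hr t (-t)
        rw [add_neg_cancel, zero_pow (by omega)] at h1
        rw [h.X_inv hrn, show (-t) ^ R.e r = -(t ^ R.e r) by linear_combination -h1, mul_neg]
      simp only [map_mul, map_inv, Subgroup.coe_mul, Subgroup.coe_inv, Subgroup.coe_one, hst r hr, hst s hs, hw]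
      rw [hinv, mul_inv_eq_one, mul_assoc (_⁻¹), mul_assoc (_⁻¹), inv_mul_eq_iff_eq_mul]
      exact e
  let ψ : D.SteinbergCover F →* ↥(D.group F) := PresentedGroup.toGroup hrel
  let θ := h.stTheta (R := D.steinbergRelsAB F) le_rfl (steinbergRelsAB_subset D F)
  have hψ : ∀ r < T.n, ∀ t, (ψ (PresentedGroup.mk _ (D.stX r t)) : GL D.Idx F) =
      X D (R.ρ r) ((R.ε r : F) * t ^ R.e r) := fun r hr t => hst r hr t
  have hsurj : Function.Surjective ψ := by
    have hsucc : ∀ r < T.n, ∀ c : F, ∃ y, (ψ y : GL D.Idx F) = X D (R.ρ r) c := by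
      intro r hr c
      obtain ⟨-, her, hε, -⟩ := ok_spec hok hr
      have hinj : Function.Injective fun x : F => x ^ R.e r := by
        intro a b hab
        have h1 := hadd r hr (a - b) b
        rw [sub_add_cancel] at h1
        exact sub_eq_zero.mp (pow_eq_zero_iff (n := R.e r) (by omega) |>.mp (by linear_combination -h1 + hab))
      obtain ⟨t, ht⟩ := (Finite.injective_iff_surjective.mp hinj) ((R.ε r : F) * c)
      refine ⟨_, (hψ r hr t).trans ?_⟩
      dsimp only at ht
      rw [ht, ← mul_assoc]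
      rcases hε with e | e <;> simp [e]
    intro y
    have hle : D.group F ≤ ψ.range.map (D.group F).subtype := by
      refine h.group_le_of_simple (fun i hi t => ?_) (fun i hi t => ?_)
      · obtain ⟨j, hj, e1, -⟩ := hsimple i hi
        obtain ⟨z, hz⟩ := hsucc _ (h.simple_lt hj) t
        exact ⟨ψ z, ⟨z, rfl⟩, by rw [← e1]; exact hz⟩
      · obtain ⟨j, hj, -, e2⟩ := hsimple i hi
        obtain ⟨z, hz⟩ := hsucc _ (CfsgLib.Chev.Cert.neg_lt (T := T) (h.simple_lt hj)) t
        exact ⟨ψ z, ⟨z, rfl⟩, by rw [← e2]; exact hz⟩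
    obtain ⟨_, ⟨z, rfl⟩, e⟩ := hle y.2
    exact ⟨z, Subtype.ext e⟩
  have hker : θ.ker ≤ ψ.ker := by
    intro z hz
    rw [h.ker_stTheta, (h.relOf (R := D.steinbergRelsAB F) le_rfl (steinbergRelsAB_subset D F)).ker_eq_center h hnb] at hz
    rw [MonoidHom.mem_ker, ← Subgroup.mem_bot, ← h.center_group (F := F), Subgroup.mem_center_iff]
    intro y
    obtain ⟨w, rfl⟩ := hsurj y
    rw [← map_mul, Subgroup.mem_center_iff.1 hz w, map_mul]
  have hθ : Function.Surjective θ := h.stTheta_surjective le_rfl (steinbergRelsAB_subset D F)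
  let φ := θ.liftOfSurjective hθ ⟨ψ, hker⟩
  have hφ : ∀ z, φ (θ z) = ψ z := fun z => MonoidHom.liftOfRightInverse_comp_apply _ _ _ _ z
  have hφs : Function.Surjective φ := fun y => by
    obtain ⟨z, rfl⟩ := hsurj y
    exact ⟨θ z, hφ z⟩
  refine ⟨MulEquiv.ofBijective φ ⟨Finite.injective_iff_surjective.mpr hφs, hφs⟩, fun r hr t x hx => ?_⟩
  have hxe : θ (PresentedGroup.mk _ (D.stX r t)) = x := by
    refine Subtype.ext ?_
    rw [h.coe_stTheta, ← h.relOf_x le_rfl (steinbergRelsAB_subset D F), Rel.π_x _ r hr, hx]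
  show (φ x : GL D.Idx F) = _
  rw [← hxe, hφ]
  exact hψ r hr t

end CfsgLib.ChevAut
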