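/-
The automorphisms fixing `U` and `V`, counted.
-/
import Mathlib
import Cfsg.Agent.Lib.ChevAut.Classify
import Cfsg.Agent.Lib.ChevAut.Graph
import Cfsg.Agent.Lib.Chev.Functorial
import Cfsg.Agent.Lib.Chev.DiagOrder
import Cfsg.Prelude.Def_KGroupFacts

set_option autoImplicit false
set_option linter.unusedSectionVars false

open Cfsg Cfsg.Lie CfsgLib.Chev

namespace CfsgLib.ChevAut

/-- The coefficient of a root at a simple root, from a table of weights. -/
def coef (T : Tab) (B : List (List ℤ)) (k r : ℕ) : ℤ := T.weight B k r / T.weight B k (T.simple k)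

/-- The weights give integral coefficients. -/
noncomputable def coefOK (T : Tab) (B : List (List ℤ)) : Bool :=
  (List.range T.l).all fun k => decide (T.weight B k (T.simple k) ≠ 0) &&
    ((List.range T.n).all fun r => decide (T.weight B k r % T.weight B k (T.simple k) = 0)) &&
    (List.range T.l).all fun i => decide (i = k) || decide (T.weight B k (T.simple i) = 0)

/-- Adjacency of two nodes. -/
noncomputable def adj0 (T : Tab) (i j : ℕ) : Bool := decide (T.car i (T.simple j) = 0)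

/-- Partial adjacency preserving permutations. -/
noncomputable def autLevel (T : Tab) : ℕ → List (List ℕ)
  | 0 => [[]]
  | k + 1 => (autLevel T k).flatMap fun s => ((List.range T.l).filter fun v => !s.contains v &&
      (List.range k).all fun j => (adj0 T k j == adj0 T v (s.getD j 0)) && (adj0 T j k == adj0 T (s.getD j 0) v)).map
      fun v => s ++ [v]

theorem mem_autLevel {T : Tab} (σ : Fin T.l → Fin T.l) (hσ : Function.Injective σ)
    (hadj : ∀ i j : Fin T.l, T.car i (T.simple j) = 0 ↔ T.car (σ i) (T.simple (σ j)) = 0) :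
    ∀ k ≤ T.l, (List.ofFn fun i => (σ i).1).take k ∈ autLevel T k := by
  intro k
  induction k with
  | zero => intro; simp [autLevel]
  | succ k ih =>
    intro hk
    have hk' : k < T.l := by omega
    have hget : ∀ j, (hj : j < k) → ((List.ofFn fun i => (σ i).1).take k).getD j 0 = (σ ⟨j, by omega⟩).1 := by
      intro j hj
      simp [List.getD_eq_getElem?_getD, List.getElem?_take, List.getElem?_ofFn, hj, show j < T.l by omega]
    simp only [autLevel, List.mem_flatMap, List.mem_map, List.mem_filter, List.mem_range, Bool.and_eq_true,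
      Bool.not_eq_true', List.all_eq_true, beq_iff_eq, adj0, decide_eq_decide]
    refine ⟨_, ih (by omega), (σ ⟨k, hk'⟩).1, ⟨(σ ⟨k, hk'⟩).2, ?_, fun j hj => ?_⟩, ?_⟩
    · rw [← Bool.not_eq_true, List.contains_iff_mem]
      intro hmem
      obtain ⟨j, hj, e⟩ := List.mem_iff_getElem.1 hmem
      have hjk : j < k := by simp [List.length_take] at hj; omega
      rw [List.getElem_take, List.getElem_ofFn] at e
      have := congrArg Fin.val (hσ (Fin.ext e))
      simp at this; omega
    · rw [hget j hj]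
      exact ⟨hadj ⟨k, hk'⟩ ⟨j, by omega⟩, hadj ⟨j, by omega⟩ ⟨k, hk'⟩⟩
    · rw [List.take_succ, List.getElem?_ofFn]
      simp [hk']

theorem mem_autLevel_top {T : Tab} (σ : Fin T.l → Fin T.l) (hσ : Function.Injective σ)
    (hadj : ∀ i j : Fin T.l, T.car i (T.simple j) = 0 ↔ T.car (σ i) (T.simple (σ j)) = 0) :
    (List.ofFn fun i => (σ i).1) ∈ autLevel T T.l := by
  have := mem_autLevel σ hσ hadj T.l le_rfl
  rwa [List.take_of_length_le (by simp)] at this

/-- Nodes reached along edges. -/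
def reach : List (ℕ × ℕ) → List ℕ → List ℕ
  | [], S => S
  | e :: L, S => if e.1 ∈ S then reach L (e.2 :: S) else reach L S

theorem reach_ind {P : ℕ → Prop} : ∀ (L : List (ℕ × ℕ)) (S : List ℕ), (∀ e ∈ L, P e.1 → P e.2) →
    (∀ a ∈ S, P a) → ∀ a ∈ reach L S, P a
  | [], _, _, hS => hS
  | e :: L, S, hL, hS => by
    have hL' : ∀ e' ∈ L, P e'.1 → P e'.2 := fun e' he' => hL e' (List.mem_cons_of_mem _ he')
    unfold reach
    split_ifs with he
    · exact reach_ind L _ hL' fun a ha => (List.mem_cons.1 ha).elim (fun h1 => h1 ▸ hL e List.mem_cons_self (hS _ he)) (hS a)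
    · exact reach_ind L S hL' hS

/-- The exponents `e` belong to the node map `s` along the edges from the root `o`. -/
noncomputable def treeOK (T : Tab) (s e : List ℕ) (o : ℕ) (L : List (ℕ × ℕ)) : Bool :=
  decide (e.getD o 0 = 1) && ((List.range T.l).all fun i => decide (i ∈ reach L [o])) &&
    L.all fun a => decide (a.1 < T.l ∧ a.2 < T.l ∧ T.car a.1 (T.simple a.2) = -1 ∧
      T.car (s.getD a.1 0) (T.simple (s.getD a.2 0)) ≤ 0 ∧
      e.getD a.2 0 = (-T.car (s.getD a.1 0) (T.simple (s.getD a.2 0))).toNat * e.getD a.1 0 ∧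
      0 < e.getD a.2 0)

theorem tree_solve {T : Tab} {F : Type*} [Field F] {s e : List ℕ} {o : Fin T.l} {L : List (ℕ × ℕ)}
    (hok : treeOK T s e o.1 L = true) {σ : Fin T.l → Fin T.l} (hs : ∀ i, (σ i).1 = s.getD i.1 0)
    {g : Fin T.l → (F ≃+* F)}
    (hg : ∀ (i j : Fin T.l) (t : F), t ≠ 0 →
      g j (t ^ T.car i (T.simple j)) = g i t ^ T.car (σ i) (T.simple (σ j))) :
    ∀ i t, g i t = g o t ^ e.getD i.1 0 := by
  simp only [treeOK, Bool.and_eq_true, decide_eq_true_eq, List.all_eq_true, List.mem_range] at hok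
  obtain ⟨⟨ho, hreach⟩, hL⟩ := hok
  intro i
  have key := reach_ind (P := fun a => ∀ ha : a < T.l, ∀ t, g ⟨a, ha⟩ t = g o t ^ e.getD a 0) L [o.1] ?_ ?_ i.1
    (hreach i.1 i.2)
  · exact key i.2
  · intro a ha hP hb t
    obtain ⟨ha1, -, hc, hle, he, hpos⟩ := hL a ha
    by_cases ht : t = 0
    · rw [ht, map_zero, map_zero, zero_pow hpos.ne']
    have h1 := hg ⟨a.1, ha1⟩ ⟨a.2, hb⟩ t ht
    simp only [hs] at h1
    rw [hc, zpow_neg_one, map_inv₀] at h1
    obtain ⟨m, hm⟩ := Int.eq_ofNat_of_zero_le (neg_nonneg.2 hle)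
    rw [show T.car (s.getD a.1 0) (T.simple (s.getD a.2 0)) = -(m : ℤ) by omega, zpow_neg, inv_inj, zpow_natCast,
      hP ha1, ← pow_mul] at h1
    rw [h1, he, hm, Int.toNat_natCast, mul_comm]
  · intro a ha hb t
    rw [List.mem_singleton] at ha
    subst ha
    rw [ho, pow_one]

/-- A root map realises the node map `s` with the exponents `e`. -/
noncomputable def nodeOK (T : Tab) (R : RootMap) (s e : List ℕ) : Bool :=
  ((List.range T.n).all fun r => decide (T.half ≤ R.ρ r ↔ T.half ≤ r)) && decide (s.length = T.l) &&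
    (List.range T.l).all fun i => decide (i ∈ s ∧ s.getD i 0 < T.l ∧ R.ρ (T.simple i) = T.simple (s.getD i 0) ∧
      R.ρ (T.neg (T.simple i)) = T.neg (T.simple (s.getD i 0)) ∧ R.ε (T.simple i) = 1 ∧
      R.ε (T.neg (T.simple i)) = 1 ∧ R.e (T.simple i) = e.getD i 0 ∧ R.e (T.neg (T.simple i)) = e.getD i 0)

variable {D : ChevalleyDatum} {T : Tab} {C : Tab.Cover} (h : Cert D T C) {F : Type*} [Field F] [Finite F]

theorem finite_group : Finite ↥(D.group F) := by
  haveI : Fintype F := Fintype.ofFinite F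
  classical
  infer_instance

include h in
theorem exists_restrict (φ : GL D.Idx F →* GL D.Idx F) (hinj : Function.Injective φ)
    (hmap : ∀ g ∈ D.group F, φ g ∈ D.group F) :
    ∃ α : MulAut ↥(D.group F), ∀ x : ↥(D.group F), (α x : GL D.Idx F) = φ x := by
  haveI := finite_group (D := D) (F := F)
  let f : ↥(D.group F) →* ↥(D.group F) := (φ.comp (D.group F).subtype).codRestrict _ fun x => hmap _ x.2
  have hf : Function.Injective f := fun a b e => Subtype.ext (hinj (congrArg Subtype.val e))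
  exact ⟨MulEquiv.ofBijective f ⟨hf, Finite.injective_iff_surjective.1 hf⟩, fun x => rfl⟩

include h in
theorem mem_stab_of_maps {α : MulAut ↥(D.group F)}
    (hα : ∀ r < T.n, ∃ r' < T.n, (T.half ≤ r' ↔ T.half ≤ r) ∧ ∀ (t : F) (x : ↥(D.group F)),
      (x : GL D.Idx F) = X D r t → ∃ t', (α x : GL D.Idx F) = X D r' t') :
    α ∈ stab D F := by
  haveI := finite_group (D := D) (F := F)
  have key : ∀ (P : ℕ → Prop) (K : Subgroup ↥(D.group F)), (∀ r r', (T.half ≤ r' ↔ T.half ≤ r) → P r → r' < T.n → P r') →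
      (∀ x : ↥(D.group F), x ∈ K ↔ (x : GL D.Idx F) ∈ gen D F {r | P r}) → (∀ r, P r → r < T.n) →
      K.map α.toMonoidHom = K := by
    intro P K hP hK hPn
    refine Subgroup.eq_of_le_of_card_ge ?_ (Subgroup.card_map_of_injective (MulEquiv.injective α)).ge
    have hle : gen D F {r | P r} ≤ (K.comap α.toMonoidHom).map (D.group F).subtype := by
      refine (Subgroup.closure_le _).2 ?_
      rintro x ⟨r, hr, t, rfl⟩
      obtain ⟨r', hr', hiff, e⟩ := hα r (hPn r hr)
      obtain ⟨t', et⟩ := e t (xE h (hPn r hr) t) rfl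
      refine ⟨xE h (hPn r hr) t, ?_, rfl⟩
      show α (xE h (hPn r hr) t) ∈ K
      rw [hK, et]
      exact X_mem_gen D (hP r r' hiff hr hr') _
    rintro _ ⟨x, hx, rfl⟩
    obtain ⟨y, hy, e⟩ := hle ((hK x).1 hx)
    rw [← Subtype.ext e]
    exact hy
  refine ⟨key (fun r => r ∈ posSet T) _ (fun r r' hiff hr hr' => ⟨hiff.2 hr.1, hr'⟩) (fun x => ?_) fun r hr => hr.2,
    key (fun r => r < T.half) _ (fun r r' hiff hr _ => not_le.1 fun e => absurd (hiff.1 e) (not_le.2 hr))
      (fun x => ?_) fun r hr => by have := h.two_mul_half; omega⟩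
  · rw [uG, Subgroup.mem_subgroupOf, h.posUnipotent_eq]; rfl
  · rw [vG, Subgroup.mem_subgroupOf, h.negUnipotent_eq]

include h in
theorem exists_fieldMap (τ : F ≃+* F) :
    ∃ α : MulAut ↥(D.group F), α ∈ stab D F ∧ (∀ r < T.n, ∀ (t : F) (x : ↥(D.group F)),
      (x : GL D.Idx F) = X D r t → (α x : GL D.Idx F) = X D r (τ t)) ∧ D.IsFieldAut α := by
  obtain ⟨α, hα⟩ := exists_restrict h (mapGL D τ.toRingHom) (mapGL_injective D _)
    fun g hg => h.map_mem_group _ hg
  have e : ∀ r < T.n, ∀ (t : F) (x : ↥(D.group F)),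
      (x : GL D.Idx F) = X D r t → (α x : GL D.Idx F) = X D r (τ t) := fun r _ t x hx => by
    rw [hα, hx, h.X_map]; rfl
  refine ⟨α, mem_stab_of_maps h fun r hr => ⟨r, hr, Iff.rfl, fun t x hx => ⟨_, e r hr t x hx⟩⟩, e,
    τ, fun g r t hr hg => ?_⟩
  rw [h.nroots_eq] at hr
  rw [← h.coe_X] at hg ⊢
  exact congrArg Units.val (e r hr t g (Units.ext hg))

section
variable {B : List (List ℤ)} (hB : coefOK T B = true)

include hB in
theorem coef_mul {k r : ℕ} (hk : k < T.l) (hr : r < T.n) :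
    coef T B k r * T.weight B k (T.simple k) = T.weight B k r ∧ T.weight B k (T.simple k) ≠ 0 := by
  simp only [coefOK, List.all_eq_true, List.mem_range, Bool.and_eq_true, decide_eq_true_eq] at hB
  obtain ⟨⟨hd, hdiv⟩, -⟩ := hB k hk
  exact ⟨Int.ediv_mul_cancel (Int.dvd_of_emod_eq_zero (hdiv r hr)), hd⟩

include h hB in
theorem coef_simple {k i : ℕ} (hk : k < T.l) (hi : i < T.l) :
    coef T B k (T.simple i) = if i = k then 1 else 0 := by
  obtain ⟨e, hd⟩ := coef_mul hB hk (h.simple_lt hi)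
  simp only [coefOK, List.all_eq_true, List.mem_range, Bool.and_eq_true, Bool.or_eq_true, decide_eq_true_eq] at hB
  obtain ⟨-, hoff⟩ := hB k hk
  split_ifs with hik
  · subst hik; exact Int.ediv_self hd
  · rw [coef, (hoff i hi).resolve_left hik, Int.zero_ediv]

include h hB in
theorem coef_neg {k r : ℕ} (hk : k < T.l) (hr : r < T.n) : coef T B k (T.neg r) = -coef T B k r := by
  obtain ⟨e1, hd⟩ := coef_mul hB hk hr
  obtain ⟨e2, -⟩ := coef_mul hB hk (Cert.neg_lt (T := T) hr)
  refine mul_right_cancel₀ hd ?_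
  rw [neg_mul, e1, e2, Tab.weight, Tab.weight, neg_eq_neg_one_mul, ← List.sum_map_mul_left]
  refine congrArg List.sum (List.map_congr_left fun j hj => ?_)
  rw [(h.root_spec hr (List.mem_range.1 hj)).2.2.2]
  ring

include h hB in
theorem coef_add {k r s u : ℕ} (hk : k < T.l) (hr : r < T.n) (hs : s < T.n)
    (hu : T.chainRoot r s 1 = some u) : coef T B k u = coef T B k r + coef T B k s := by
  obtain ⟨e1, hd⟩ := coef_mul hB hk hr
  obtain ⟨e2, -⟩ := coef_mul hB hk hs
  obtain ⟨e3, -⟩ := coef_mul hB hk (h.chainRoot_lt hr hs hu)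
  refine mul_right_cancel₀ hd ?_
  rw [add_mul, e1, e2, e3, Tab.weight, Tab.weight, Tab.weight]
  simp only [Tab.chainRoot, Option.map_eq_some_iff] at hu
  obtain ⟨a, ha, rfl⟩ := hu
  have hq : ((a.1, a.2), 1) ∈ (T.entry r s).zipIdx 1 :=
    List.mk_mem_zipIdx_iff_le_and_getElem?_sub.2 ⟨le_rfl, ha⟩
  rw [← List.sum_map_add]
  refine congrArg List.sum (List.map_congr_left fun j hj => ?_)
  rw [h.lin_spec hr hs hq (List.mem_range.1 hj)]
  push_cast
  ring

include h hB in
theorem exists_diagMap (hc : T.chkStep = true) (c : Fin T.l → Fˣ) :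
    ∃ α : MulAut ↥(D.group F), α ∈ stab D F ∧
      (∀ (i : Fin T.l) (t : F) (x : ↥(D.group F)), (x : GL D.Idx F) = X D (T.simple i) t →
        (α x : GL D.Idx F) = X D (T.simple i) (c i * t)) ∧
      (∀ (i : Fin T.l) (t : F) (x : ↥(D.group F)), (x : GL D.Idx F) = X D (T.neg (T.simple i)) t →
        (α x : GL D.Idx F) = X D (T.neg (T.simple i)) ((c i : F)⁻¹ * t)) ∧ D.IsDiagonalAut α := by
  classical
  let χ : ℕ → Fˣ := fun r => ∏ k : Fin T.l, c k ^ coef T B k.1 r
  have hχ : D.IsRootCharacter χ := by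
    refine ⟨fun r hr => ?_, fun r s u hr hs hu => ?_⟩
    · rw [h.nroots_eq] at hr
      rw [h.neg_eq hr]
      simp only [χ, coef_neg h hB (Fin.is_lt _) hr, zpow_neg, Finset.prod_inv_distrib]
    · rw [h.nroots_eq] at hr hs
      rw [h.chainRoot_eq hr hs] at hu
      simp only [χ, coef_add h hB (Fin.is_lt _) hr hs hu, zpow_add, Finset.prod_mul_distrib]
  have hχs : ∀ i : Fin T.l, χ (T.simple i) = c i := fun i => by
    simp only [χ, coef_simple h hB (Fin.is_lt _) i.2]
    rw [Finset.prod_eq_single i (fun k _ hk => by rw [if_neg (fun e => hk (Fin.ext e.symm)), zpow_zero]) (by simp),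
      if_pos rfl, zpow_one]
  let d : GL D.Idx F := ⟨D.charDiag F χ, D.charDiag F fun s => (χ s)⁻¹, Cert.charDiag_mul_inv χ, by
    simpa using Cert.charDiag_mul_inv (D := D) fun s => (χ s)⁻¹⟩
  have hd : ∀ r < T.n, ∀ t : F, MulAut.conj d (X D r t) = X D r ((χ r : F) * t) := fun r hr t =>
    Units.ext (by
      rw [MulAut.conj_apply, Units.val_mul, Units.val_mul, h.coe_X, h.coe_X]
      exact h.charDiag_conj hc hχ hr t)
  have hle : D.group F ≤ (D.group F).comap (MulAut.conj d).toMonoidHom :=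
    h.group_le_of_simple
      (fun i hi t => by
        show MulAut.conj d (X D (T.simple i) t) ∈ D.group F
        rw [hd _ (h.simple_lt hi)]; exact h.X_mem_group (h.simple_lt hi) _)
      (fun i hi t => by
        show MulAut.conj d (X D _ t) ∈ D.group F
        rw [hd _ (Cert.neg_lt (T := T) (h.simple_lt hi))]
        exact h.X_mem_group (Cert.neg_lt (T := T) (h.simple_lt hi)) _)
  obtain ⟨α, hα⟩ := exists_restrict h (MulAut.conj d).toMonoidHom (MulEquiv.injective _) hle
  have e : ∀ r < T.n, ∀ (t : F) (x : ↥(D.group F)),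
      (x : GL D.Idx F) = X D r t → (α x : GL D.Idx F) = X D r ((χ r : F) * t) := fun r hr t x hx => by
    rw [hα, hx]; exact hd r hr t
  refine ⟨α, mem_stab_of_maps h fun r hr => ⟨r, hr, Iff.rfl, fun t x hx => ⟨_, e r hr t x hx⟩⟩,
    fun i t x hx => by rw [e _ (h.simple_lt i.2) t x hx, hχs], fun i t x hx => ?_, χ, hχ, fun g => ?_⟩
  · rw [e _ (Cert.neg_lt (T := T) (h.simple_lt i.2)) t x hx, ← h.neg_eq (h.simple_lt i.2),
    hχ.1 _ (lt_of_lt_of_eq (h.simple_lt i.2) h.nroots_eq.symm), hχs, Units.val_inv_eq_inv_val]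
  · rw [hα]; rfl

end

/-- An automorphism permuting the simple root groups. -/
structure NodeMap (D : ChevalleyDatum) (T : Tab) (F : Type*) [Field F] where
  /-- the nodes -/
  σ : Fin T.l → Fin T.l
  /-- the exponents -/
  e : Fin T.l → ℕ
  /-- the automorphism -/
  φ : MulAut ↥(D.group F)
  bij : Function.Bijective σ
  mem : φ ∈ stab D F
  pos : ∀ (i : Fin T.l) (t : F) (x : ↥(D.group F)), (x : GL D.Idx F) = X D (T.simple i) t →
    (φ x : GL D.Idx F) = X D (T.simple (σ i)) (t ^ e i)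
  neg : ∀ (i : Fin T.l) (t : F) (x : ↥(D.group F)), (x : GL D.Idx F) = X D (T.neg (T.simple i)) t →
    (φ x : GL D.Idx F) = X D (T.neg (T.simple (σ i))) (t ^ e i)

/-- The trivial node map. -/
noncomputable def NodeMap.triv (D : ChevalleyDatum) (T : Tab) (F : Type*) [Field F] : NodeMap D T F where
  σ := id
  e := fun _ => 1
  φ := 1
  bij := Function.bijective_id
  mem := one_mem _
  pos := fun i t x hx => by simpa using hx
  neg := fun i t x hx => by simpa using hx

include h in
theorem exists_nodeMap (hnb : Rel.Nbr T) (R : RootMap) (hp : (R.modp : F) = 0) (hok : R.ok T = true)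
    (hadd : R.Additive T F) {s e : List ℕ} (hn : nodeOK T R s e = true) :
    ∃ N : NodeMap D T F, (∀ i, (N.σ i).1 = s.getD i.1 0) ∧ ∀ i, N.e i = e.getD i.1 0 := by
  simp only [nodeOK, Bool.and_eq_true, List.all_eq_true, List.mem_range, decide_eq_true_eq] at hn
  obtain ⟨⟨hsgn, hlen⟩, hnode⟩ := hn
  let σ : Fin T.l → Fin T.l := fun i => ⟨s.getD i.1 0, (hnode i.1 i.2).2.1⟩
  have hσsurj : Function.Surjective σ := by
    intro j
    obtain ⟨i, hi, ei⟩ := List.mem_iff_getElem.1 (hnode j.1 j.2).1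
    exact ⟨⟨i, hlen ▸ hi⟩, Fin.ext (by
      show s.getD i 0 = j.1
      rw [List.getD_eq_getElem?_getD, List.getElem?_eq_getElem hi, ei]; rfl)⟩
  have hσb : Function.Bijective σ := ⟨Finite.injective_iff_surjective.2 hσsurj, hσsurj⟩
  obtain ⟨φ, hφ⟩ := exists_rootAut h hnb R hp hok hadd fun j hj => by
    obtain ⟨i, hi⟩ := hσsurj ⟨j, hj⟩
    obtain ⟨-, -, a, b, -⟩ := hnode i.1 i.2
    have hi' : s.getD i.1 0 = j := congrArg Fin.val hi
    exact ⟨i.1, i.2, a.trans (by rw [hi']), b.trans (by rw [hi'])⟩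
  refine ⟨⟨σ, fun i => e.getD i.1 0, φ, hσb, mem_stab_of_maps h fun r hr =>
    ⟨R.ρ r, (RootMap.ok_spec hok hr).1, hsgn r hr, fun t x hx => ⟨_, hφ r hr t x hx⟩⟩,
    fun i t x hx => ?_, fun i t x hx => ?_⟩, fun i => rfl, fun i => rfl⟩
  · obtain ⟨-, -, a, -, c, -, d, -⟩ := hnode i.1 i.2
    rw [hφ _ (h.simple_lt i.2) t x hx, a, c, d, Int.cast_one, one_mul]
  · obtain ⟨-, -, -, a, -, c, -, d⟩ := hnode i.1 i.2
    rw [hφ _ (Cert.neg_lt (T := T) (h.simple_lt i.2)) t x hx, a, c, d, Int.cast_one, one_mul]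

end CfsgLib.ChevAut
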