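/-
The order of the outer automorphism group.
-/
import Mathlib
import Cfsg.Agent.Lib.ChevAut.Count

set_option autoImplicit false
set_option linter.unusedSectionVars false

open Cfsg Cfsg.Lie CfsgLib.Chev

namespace CfsgLib.ChevAut

variable {D : ChevalleyDatum} {T : Tab} {C : Tab.Cover} (h : Cert D T C) {F : Type*} [Field F] [Fintype F]
variable {w : List ℕ} (hw : oppOK T w = true)

include h in
theorem conj_mem_stab_of_tG {g : ↥(D.group F)} (hg : g ∈ tG D F) : MulAut.conj g ∈ stab D F := by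
  refine mem_stab_of_maps h fun r hr => ⟨r, hr, Iff.rfl, fun t x hx => ?_⟩
  obtain ⟨a, -, ea⟩ := h.Maps_diagonal (Subgroup.mem_subgroupOf.1 hg) hr
  refine ⟨a * t, ?_⟩
  rw [MulAut.conj_apply, Subgroup.coe_mul, Subgroup.coe_mul, Subgroup.coe_inv, hx]
  exact ea t

include h in
theorem map_conj_eq_iff {K : Subgroup ↥(D.group F)} {g : ↥(D.group F)} :
    K.map (MulAut.conj g).toMonoidHom = K ↔ g ∈ Subgroup.normalizer (K : Set ↥(D.group F)) := by
  rw [Subgroup.mem_normalizer_iff]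
  constructor
  · intro e x
    constructor
    · intro hx
      rw [← e]
      exact ⟨x, hx, rfl⟩
    · intro hx
      rw [← e] at hx
      obtain ⟨y, hy, ey⟩ := hx
      have : y = x := by simpa using ey
      exact this ▸ hy
  · intro hn
    ext x
    constructor
    · rintro ⟨y, hy, rfl⟩; exact (hn y).1 hy
    · exact fun hx => ⟨g⁻¹ * x * g, (hn _).2 (by simpa [mul_assoc] using hx), by simp [mul_assoc]⟩

include h hw in
theorem mem_tG_of_conj_mem_stab {g : ↥(D.group F)} (hg : MulAut.conj g ∈ stab D F) : g ∈ tG D F := by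
  have hgB : g ∈ bG D F := by rw [← normalizer_uG h]; exact (map_conj_eq_iff h).1 hg.1
  obtain ⟨u, hu, t, ht, e⟩ := h.mem_borel_iff.1 (Subgroup.mem_subgroupOf.1 hgB)
  let t' : ↥(D.group F) := ⟨t, h.borel_le_group (Subgroup.mem_sup_right ht)⟩
  let u' : ↥(D.group F) := ⟨u, h.borel_le_group (Subgroup.mem_sup_left hu)⟩
  have hgut : g = u' * t' := Subtype.ext e
  have hus : MulAut.conj u' ∈ stab D F := by
    have : u' = g * t'⁻¹ := by rw [hgut, mul_inv_cancel_right]
    rw [this, map_mul]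
    exact mul_mem hg (conj_mem_stab_of_tG h (inv_mem (Subgroup.mem_subgroupOf.2 ht)))
  set n := n0 h hw (F := F) with hn
  have hy : MulAut.conj (n⁻¹ * u' * n) = (MulAut.conj n)⁻¹ * MulAut.conj u' * MulAut.conj n := by
    rw [map_mul, map_mul, map_inv]
  have hcU : (uG D F).map (MulAut.conj n).toMonoidHom = vG D F := conj_uG h hw
  have hcV : (vG D F).map (MulAut.conj n).toMonoidHom = uG D F := conj_vG h hw
  have hmm : ∀ (a b : MulAut ↥(D.group F)) (K : Subgroup ↥(D.group F)),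
      K.map (a * b).toMonoidHom = (K.map b.toMonoidHom).map a.toMonoidHom := fun a b K => by
    rw [Subgroup.map_map]; rfl
  have hyB : n⁻¹ * u' * n ∈ bG D F := by
    rw [← normalizer_uG h, ← map_conj_eq_iff h, hy, hmm, hmm, hcU, hus.2, ← hcU, ← hmm, inv_mul_cancel]
    exact Subgroup.map_id _
  have hyV : n⁻¹ * u' * n ∈ vG D F := by
    have hu' : u' ∈ uG D F := Subgroup.mem_subgroupOf.2 hu
    rw [← hcV] at hu'
    obtain ⟨y, hy, ey⟩ := hu'
    have : n⁻¹ * u' * n = y := by rw [← ey]; simp [mul_assoc]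
    rw [this]; exact hy
  have h1 : n⁻¹ * u' * n ∈ vG D F ⊓ bG D F := ⟨hyV, hyB⟩
  rw [vG_inf_bG h, Subgroup.mem_bot] at h1
  have h2 : u' = 1 := by
    have := congrArg (fun z => n * z * n⁻¹) h1
    simpa [mul_assoc] using this
  rw [hgut, h2, one_mul]
  exact Subgroup.mem_subgroupOf.2 ht

include h hw in
theorem card_out_mul {p : ℕ} [Fact p.Prime] [CharP F p] :
    Nat.card (Cfsg.Out ↥(D.group F)) * Nat.card (D.diagonalSubgroup F) = Nat.card (stab D F) := by
  haveI := finite_group (D := D) (F := F)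
  have htop : Inn ↥(D.group F) ⊔ stab D F = ⊤ := by
    rw [eq_top_iff]
    intro α _
    obtain ⟨g, hg⟩ := exists_stab h hw (p := p) α
    have : α = (MulAut.conj g)⁻¹ * (MulAut.conj g * α) := by rw [inv_mul_cancel_left]
    rw [this]
    exact mul_mem (Subgroup.mem_sup_left (inv_mem ⟨g, rfl⟩)) (Subgroup.mem_sup_right hg)
  have hcard : Nat.card ((Inn ↥(D.group F)).subgroupOf (stab D F)) = Nat.card (D.diagonalSubgroup F) := by
    rw [← Nat.card_congr (Subgroup.subgroupOfEquivOfLe h.diagonal_le_group).toEquiv]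
    let f : ↥(tG D F) → ↥((Inn ↥(D.group F)).subgroupOf (stab D F)) := fun x =>
      ⟨⟨MulAut.conj x.1, conj_mem_stab_of_tG h x.2⟩, ⟨x.1, rfl⟩⟩
    have hconj : Function.Injective (MulAut.conj : ↥(D.group F) →* MulAut ↥(D.group F)) := by
      refine (injective_iff_map_eq_one _).2 fun a ha => ?_
      have hc : a ∈ Subgroup.center ↥(D.group F) := Subgroup.mem_center_iff.2 fun y => by
        have h2 := DFunLike.congr_fun ha y
        simp only [MulAut.conj_apply, MulAut.one_apply] at h2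
        exact (mul_inv_eq_iff_eq_mul.1 h2).symm
      rwa [h.center_group, Subgroup.mem_bot] at hc
    refine (Nat.card_congr (Equiv.ofBijective f ⟨fun a b e => Subtype.ext (hconj ?_), ?_⟩)).symm
    · exact congrArg (fun z => z.1.1) e
    · rintro ⟨⟨α, hα⟩, hmem⟩
      obtain ⟨g, hg⟩ := id hmem
      have hg' : MulAut.conj g = α := hg
      subst hg'
      exact ⟨⟨g, mem_tG_of_conj_mem_stab h hw hα⟩, rfl⟩
  rw [← Subgroup.card_mul_index ((Inn ↥(D.group F)).subgroupOf (stab D F)), hcard, mul_comm]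
  congr 1
  show (Inn ↥(D.group F)).index = (Inn ↥(D.group F)).relIndex (stab D F)
  rw [← Subgroup.relIndex_top_right, ← htop, sup_comm, Subgroup.relIndex_sup_right]

variable (hp2 : pairsOK T = true) {B : List (List ℤ)} (hB : coefOK T B = true) (hc : T.chkStep = true)

include h hw hp2 hB hc in
/-- The automorphisms fixing `U` and `V` are diagonal, field and node automorphisms. -/
theorem card_stab {ι : Type} [Fintype ι] (γ : ι → NodeMap D T F) (o : Fin T.l)
    (ho : ∀ k, (γ k).e o = 1) (hinj : Function.Injective fun k => (γ k).σ)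
    (hcomp : ∀ (σ : Fin T.l → Fin T.l) (g : Fin T.l → (F ≃+* F)), Function.Bijective σ →
      (∀ i j : Fin T.l, T.car i (T.simple j) = 0 ↔ T.car (σ i) (T.simple (σ j)) = 0) →
      (∀ (i j : Fin T.l) (t : F), t ≠ 0 →
        g j (t ^ T.car i (T.simple j)) = g i t ^ T.car (σ i) (T.simple (σ j))) →
      ∃ k, (γ k).σ = σ ∧ ∀ i t, g i t = g o t ^ (γ k).e i) :
    Nat.card (stab D F) = Fintype.card ι * Nat.card (F ≃+* F) * (Fintype.card F - 1) ^ T.l := by
  classical
  choose δ hδmem hδp hδn hδd using fun c => exists_diagMap h (F := F) hB hc c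
  choose φ hφmem hφ hφF using fun τ => exists_fieldMap h (F := F) τ
  let inv : ι → Fin T.l → Fin T.l := fun k => (Equiv.ofBijective _ (γ k).bij).symm
  let Φ : ι × (F ≃+* F) × (Fin T.l → Fˣ) → ↥(stab D F) := fun a =>
    ⟨δ (a.2.2 ∘ inv a.1) * (γ a.1).φ * φ a.2.1, mul_mem (mul_mem (hδmem _) (γ a.1).mem) (hφmem _)⟩
  have hinv : ∀ k i, inv k ((γ k).σ i) = i := fun k i => (Equiv.ofBijective _ (γ k).bij).symm_apply_apply i
  have hΦp : ∀ a (i : Fin T.l) (t : F) (x : ↥(D.group F)), (x : GL D.Idx F) = X D (T.simple i) t →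
      ((Φ a).1 x : GL D.Idx F) = X D (T.simple ((γ a.1).σ i)) (a.2.2 i * a.2.1 t ^ (γ a.1).e i) := by
    intro a i t x hx
    show (δ _ ((γ a.1).φ (φ a.2.1 x)) : GL D.Idx F) = _
    rw [hδp _ ((γ a.1).σ i) _ _ ((γ a.1).pos i _ _ (hφ _ _ (h.simple_lt i.2) t x hx)), Function.comp_apply, hinv]
  have hΦn : ∀ a (i : Fin T.l) (t : F) (x : ↥(D.group F)), (x : GL D.Idx F) = X D (T.neg (T.simple i)) t →
      ((Φ a).1 x : GL D.Idx F) =
        X D (T.neg (T.simple ((γ a.1).σ i))) ((a.2.2 i : F)⁻¹ * a.2.1 t ^ (γ a.1).e i) := by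
    intro a i t x hx
    show (δ _ ((γ a.1).φ (φ a.2.1 x)) : GL D.Idx F) = _
    rw [hδn _ ((γ a.1).σ i) _ _ ((γ a.1).neg i _ _
      (hφ _ _ (Cert.neg_lt (T := T) (h.simple_lt i.2)) t x hx)), Function.comp_apply, hinv]
  have hinjX : ∀ {r : ℕ}, r < T.n → ∀ {a b : F}, X D r a = X D r b → a = b := fun hr _ _ e => h.X_inj hr e
  have hΦinj : Function.Injective Φ := by
    rintro ⟨k, τ, c⟩ ⟨k', τ', c'⟩ e
    have ev : ∀ i t, X D (T.simple ((γ k).σ i)) (c i * τ t ^ (γ k).e i) =
        X D (T.simple ((γ k').σ i)) (c' i * τ' t ^ (γ k').e i) := fun i t => by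
      rw [← hΦp (k, τ, c) i t (xE h (h.simple_lt i.2) t) rfl, e]
      exact hΦp (k', τ', c') i t _ rfl
    have hk : k = k' := hinj (funext fun i => by
      have h1 := ev i 1
      simp only [map_one, one_pow, mul_one] at h1
      have h2 := h.root_eq_of_X_eq (h.simple_lt ((γ k).σ i).2) (h.simple_lt ((γ k').σ i).2) (c i).ne_zero h1
      have h5 := (h.simple_spec ((γ k).σ i).2).2.2.2 _ ((γ k).σ i).2
      rw [h2, (h.simple_spec ((γ k').σ i).2).2.2.2 _ ((γ k).σ i).2, if_pos rfl] at h5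
      split_ifs at h5 with hab
      · exact Fin.ext hab.symm
      · simp at h5)
    subst hk
    have ev' : ∀ i t, (c i : F) * τ t ^ (γ k).e i = c' i * τ' t ^ (γ k).e i := fun i t =>
      hinjX (h.simple_lt ((γ k).σ i).2) (ev i t)
    have hcc : c = c' := funext fun i => Units.ext (by simpa using ev' i 1)
    subst hcc
    have hτ : τ = τ' := RingEquiv.ext fun t => by
      have := ev' o t
      rw [ho, pow_one, pow_one] at this
      exact mul_left_cancel₀ (c o).ne_zero this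
    rw [hτ]
  have hΦsurj : Function.Surjective Φ := by
    rintro ⟨α, hα⟩
    obtain ⟨σ, g, c, hσ, hpos, hneg, hadj, hrel⟩ := exists_params h hw hp2 hα
    obtain ⟨k, hk, hg⟩ := hcomp σ g hσ hadj hrel
    refine ⟨(k, g o, c), Subtype.ext (MulEquiv.toMonoidHom_injective (h.hom_ext_simple
      (fun i hi t x hx => Subtype.ext ?_) fun i hi t x hx => Subtype.ext ?_))⟩
    · refine (hΦp (k, g o, c) ⟨i, hi⟩ t x hx).trans ?_
      rw [hk, ← hg]
      exact (hpos ⟨i, hi⟩ t x hx).symm
    · refine (hΦn (k, g o, c) ⟨i, hi⟩ t x hx).trans ?_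
      rw [hk, ← hg]
      exact (hneg ⟨i, hi⟩ t x hx).symm
  rw [← Nat.card_congr (Equiv.ofBijective Φ ⟨hΦinj, hΦsurj⟩), Nat.card_prod, Nat.card_prod, Nat.card_fun,
    Nat.card_eq_fintype_card, Nat.card_eq_fintype_card (α := Fˣ), Fintype.card_units, Nat.card_fin]
  ring

end CfsgLib.ChevAut
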