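/-
The outer automorphism groups of the exceptional Chevalley groups.
-/
import Mathlib
import Cfsg.Agent.Lib.ChevAut.Out
import Cfsg.Agent.Lib.Chev.OrderData
import Cfsg.Agent.Lib.AutPSL.Structure

set_option autoImplicit false
set_option linter.unusedSectionVars false

open Cfsg Cfsg.Lie CfsgLib.Chev

namespace CfsgLib.ChevAut

variable {D : ChevalleyDatum} {T : Tab} {C : Tab.Cover} (h : Cert D T C) {F : Type*} [Field F] [Fintype F]

/-- A node map recognised by a list. -/
theorem solve {s e : List ℕ} {o : Fin T.l} {L : List (ℕ × ℕ)} (ht : treeOK T s e o.1 L = true)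
    {σ : Fin T.l → Fin T.l} {g : Fin T.l → (F ≃+* F)} (hs : (List.ofFn fun i => (σ i).1) = s)
    (hg : ∀ (i j : Fin T.l) (t : F), t ≠ 0 →
      g j (t ^ T.car i (T.simple j)) = g i t ^ T.car (σ i) (T.simple (σ j))) :
    (∀ i, (σ i).1 = s.getD i.1 0) ∧ ∀ i t, g i t = g o t ^ e.getD i.1 0 := by
  have h1 : ∀ i, (σ i).1 = s.getD i.1 0 := fun i => by
    subst hs
    simp [List.getD_eq_getElem?_getD, List.getElem?_ofFn]
  exact ⟨h1, tree_solve ht h1 hg⟩

theorem getD_ones {l i : ℕ} (hi : i < l) : (List.replicate l 1).getD i 0 = 1 := by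
  simp [List.getD_eq_getElem?_getD, List.getElem?_replicate, hi]

variable {w : List ℕ} (hw : oppOK T w = true) (hp2 : pairsOK T = true) {B : List (List ℤ)}
  (hB : coefOK T B = true) (hc : T.chkStep = true)
variable {s : List ℕ} (haut : ((autLevel T T.l).all fun x => x == List.range T.l || x == s) = true)
variable {o : Fin T.l} {L : List (ℕ × ℕ)}
variable (htree : treeOK T (List.range T.l) (List.replicate T.l 1) o.1 L = true)

theorem triv_case {σ : Fin T.l → Fin T.l} {g : Fin T.l → (F ≃+* F)}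
    (ht : treeOK T (List.range T.l) (List.replicate T.l 1) o.1 L = true)
    (hs : (List.ofFn fun i => (σ i).1) = List.range T.l)
    (hg : ∀ (i j : Fin T.l) (t : F), t ≠ 0 →
      g j (t ^ T.car i (T.simple j)) = g i t ^ T.car (σ i) (T.simple (σ j))) :
    (NodeMap.triv D T F).σ = σ ∧ ∀ i t, g i t = g o t ^ (NodeMap.triv D T F).e i := by
  obtain ⟨h1, h2⟩ := solve ht hs hg
  refine ⟨funext fun i => Fin.ext ?_, fun i t => ?_⟩
  · rw [h1, List.getD_eq_getElem?_getD, List.getElem?_range i.2]; rfl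
  · rw [h2, getD_ones i.2]; rfl

include haut in
theorem aut_cases {σ : Fin T.l → Fin T.l} (hσ : Function.Bijective σ)
    (hadj : ∀ i j : Fin T.l, T.car i (T.simple j) = 0 ↔ T.car (σ i) (T.simple (σ j)) = 0) :
    (List.ofFn fun i => (σ i).1) = List.range T.l ∨ (List.ofFn fun i => (σ i).1) = s := by
  simp only [List.all_eq_true, Bool.or_eq_true, beq_iff_eq] at haut
  exact haut _ (mem_autLevel_top σ hσ.1 hadj)

include h hw hp2 hB hc haut htree in
/-- Only the trivial node map occurs. -/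
theorem card_stab_single
    (hbad : ∀ (σ : Fin T.l → Fin T.l) (g : Fin T.l → (F ≃+* F)), (List.ofFn fun i => (σ i).1) = s →
      (∀ (i j : Fin T.l) (t : F), t ≠ 0 →
        g j (t ^ T.car i (T.simple j)) = g i t ^ T.car (σ i) (T.simple (σ j))) → s = List.range T.l) :
    Nat.card (stab D F) = Nat.card (F ≃+* F) * (Fintype.card F - 1) ^ T.l := by
  have := card_stab h hw hp2 hB hc (fun _ : Unit => NodeMap.triv D T F) o (fun _ => rfl)
    (fun _ _ _ => rfl) fun σ g hσ hadj hg => ⟨(), triv_case htree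
      ((aut_cases haut hσ hadj).elim id fun e => e.trans (hbad σ g e hg)) hg⟩
  simpa using this

include h hw hp2 hB hc haut htree in
/-- The nontrivial node map occurs as well. -/
theorem card_stab_double (hnb : Rel.Nbr T) (R : RootMap) (hp : (R.modp : F) = 0) (hok : R.ok T = true)
    (hadd : R.Additive T F) {e : List ℕ} (hn : nodeOK T R s e = true) (ht : treeOK T s e o.1 L = true)
    (hne : s.getD o.1 0 ≠ o.1) :
    Nat.card (stab D F) = 2 * Nat.card (F ≃+* F) * (Fintype.card F - 1) ^ T.l := by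
  obtain ⟨N, hNσ, hNe⟩ := exists_nodeMap h (F := F) hnb R hp hok hadd hn
  let γ : Bool → NodeMap D T F := fun b => if b then N else NodeMap.triv D T F
  have ho : ∀ k, (γ k).e o = 1 := by
    rintro (_ | _)
    · rfl
    · show N.e o = 1
      simp only [treeOK, Bool.and_eq_true, decide_eq_true_eq] at ht
      rw [hNe]; exact ht.1.1
  have hinj : Function.Injective fun k => (γ k).σ := by
    have hno : N.σ ≠ (NodeMap.triv D T F).σ := fun e => hne (by
      rw [← hNσ, e]; rfl)
    rintro (_ | _) (_ | _) e <;> first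
      | rfl
      | exact absurd e hno
      | exact absurd e.symm hno
  have := card_stab h hw hp2 hB hc γ o ho hinj fun σ g hσ hadj hg => by
    rcases aut_cases haut hσ hadj with e1 | e1
    · exact ⟨false, triv_case htree e1 hg⟩
    · obtain ⟨h1, h2⟩ := solve ht e1 hg
      refine ⟨true, funext fun i => Fin.ext ?_, fun i t => ?_⟩
      · show (N.σ i).1 = (σ i).1
        rw [hNσ, h1]
      · show g i t = g o t ^ N.e i
        rw [hNe, h2]
  simpa using this

/-- Cancelling the torus. -/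
theorem out_eq {O H n k f d q l : ℕ} (h1 : O * H = n) (h2 : n = k * f * q ^ l) (h3 : d * H = q ^ l) (hH : 0 < H) :
    O = k * d * f := by
  refine Nat.eq_of_mul_eq_mul_right hH ?_
  rw [h1, h2, ← h3]; ring

theorem card_aut {p f : ℕ} [Fact p.Prime] (hF : Fintype.card F = p ^ f) : Nat.card (F ≃+* F) = f := by
  refine (CfsgLib.AutPSL.card_ringAut_isCyclic hF ?_).2
  rcases f with _ | f
  · exact absurd (Fintype.one_lt_card (α := F)) (by simp [hF])
  · omega

/-- An exponent is additive on every root. -/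
theorem additive_of {p : ℕ} [Fact p.Prime] [CharP F p] {R : RootMap}
    (hR : ((List.range T.n).all fun r => R.e r == 1 || R.e r == p) = true) : R.Additive T F := by
  intro r hr a b
  simp only [List.all_eq_true, List.mem_range, Bool.or_eq_true, beq_iff_eq] at hR
  rcases hR r hr with e | e <;> rw [e]
  · simp
  · exact add_pow_char a b p

theorem cast_zero_of {p : ℕ} [CharP F p] {R : RootMap} (hR : R.modp = p) : (R.modp : F) = 0 := by
  rw [hR]; exact CharP.cast_eq_zero F p

/-- The graph map of `G₂`. -/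
def mapG2 : RootMap :=
  ⟨[2, 3, 0, 1, 5, 4, 7, 6, 10, 11, 8, 9], [], [1, 1, 3, 3, 3, 1, 1, 3, 3, 3, 1, 1], 3⟩

/-- The graph map of `F₄`. -/
def mapF4 : RootMap :=
  ⟨[3, 7, 8, 0, 9, 11, 18, 1, 2, 4, 15, 5, 16, 21, 23, 10, 12, 19, 6, 17, 22, 13, 20, 14, 33, 27, 34, 25, 30, 41,
    28, 35, 37, 24, 26, 31, 42, 32, 43, 45, 46, 29, 36, 38, 47, 39, 40, 44], [],
    [1, 1, 1, 2, 1, 1, 1, 2, 2, 2, 2, 2, 2, 2, 2, 1, 1, 1, 2, 2, 2, 1, 1, 1, 1, 1, 1, 2, 2, 2, 1, 1, 1, 2, 2, 2, 2,
    2, 2, 2, 2, 1, 1, 1, 2, 1, 1, 1], 2⟩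

/-- The graph map of `E₆`. -/
def mapE6 : RootMap :=
  ⟨[0, 1, 2, 5, 16, 3, 6, 17, 8, 19, 22, 11, 26, 30, 33, 35, 4, 7, 18, 9, 20, 23, 10, 21, 24, 25, 12, 27, 31, 34, 13,
    28, 32, 14, 29, 15, 56, 42, 57, 39, 43, 58, 37, 40, 44, 59, 46, 47, 50, 61, 48, 51, 62, 53, 64, 67, 36, 38, 41,
    45, 60, 49, 52, 63, 54, 65, 68, 55, 66, 69, 70, 71],
    [1, 1, 1, 1, -1, 1, 1, -1, 1, -1, -1, 1, -1, 1, -1, 1, -1, -1, 1, -1, 1, 1, -1, 1, 1, 1, -1, 1, -1, 1, 1, -1, 1,
    -1, 1, 1, 1, 1, -1, 1, -1, 1, 1, -1, 1, -1, 1, 1, 1, -1, 1, 1, -1, 1, -1, -1, 1, -1, 1, -1, 1, -1, -1, 1, -1, 1,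
    1, -1, 1, 1, 1, 1], [], 0⟩

theorem card_outG2 {p f : ℕ} [Fact p.Prime] [CharP F p] (hF : Fintype.card F = p ^ f) (hq : 3 ≤ p ^ f) :
    Nat.card (Cfsg.Out ↥(chevG2.group F)) = if p = 3 then 2 * f else f := by
  have hw : oppOK tabG2 [0, 1, 0, 1, 0, 1] = true := by decide +kernel
  have hp2 : pairsOK tabG2 = true := by decide +kernel
  have hB : coefOK tabG2 weightsG2 = true := by decide +kernel
  have haut : ((autLevel tabG2 tabG2.l).all fun x => x == List.range tabG2.l || x == [1, 0]) = true := by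
    decide +kernel
  let o : Fin tabG2.l := ⟨1, by decide +kernel⟩
  have htree : treeOK tabG2 (List.range tabG2.l) (List.replicate tabG2.l 1) o.1 [(1, 0)] = true := by decide +kernel
  have ht : treeOK tabG2 [1, 0] [3, 1] o.1 [(1, 0)] = true := by decide +kernel
  have h1 := card_out_mul certG2 hw (F := F) (p := p)
  have hd : 1 * Nat.card (chevG2.diagonalSubgroup F) = (Fintype.card F - 1) ^ 2 := by
    rw [one_mul]; exact card_diagonalG2
  have hH : 0 < Nat.card (chevG2.diagonalSubgroup F) := Nat.card_pos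
  have hl : tabG2.l = 2 := rfl
  split_ifs with hp
  · subst hp
    have h2 := card_stab_double certG2 hw hp2 hB chkStepG2 haut htree (by unfold Rel.Nbr; decide +kernel)
      mapG2 (cast_zero_of (F := F) (p := 3) rfl) (by decide +kernel) (additive_of (p := 3) (by decide +kernel))
      (e := [3, 1]) (by decide +kernel) ht (by decide +kernel)
    rw [card_aut hF, hl] at h2
    simpa using out_eq h1 h2 hd hH
  · have h2 := card_stab_single certG2 hw hp2 hB chkStepG2 haut htree (F := F) fun σ g hs hg => by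
      exfalso
      obtain ⟨-, h3⟩ := solve ht hs hg
      have h4 := h3 ⟨0, by decide +kernel⟩
      have hadd : ∀ a b : F, (a + b) ^ 3 = a ^ 3 + b ^ 3 := fun a b => by
        have e := map_add (g ⟨0, by decide +kernel⟩) ((g o).symm a) ((g o).symm b)
        simpa [h4] using e
      obtain ⟨b, hb0, hb1⟩ : ∃ b : F, b ≠ 0 ∧ 1 + b ≠ 0 := by
        classical
        by_contra hcon
        push Not at hcon
        have hsub : (Finset.univ : Finset F) ⊆ {0, -1} := fun b _ => by
          rcases eq_or_ne b 0 with hb | hb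
          · simp [hb]
          · simp [eq_neg_of_add_eq_zero_right (hcon b hb)]
        have := (Finset.card_le_card hsub).trans Finset.card_le_two
        rw [Finset.card_univ, hF] at this
        omega
      have h5 : (3 : F) * (b * (1 + b)) = 0 := by linear_combination hadd 1 b
      have h6 : ((3 : ℕ) : F) = 0 := by
        simpa using (mul_eq_zero.1 h5).resolve_right (mul_ne_zero hb0 hb1)
      exact hp ((Nat.prime_dvd_prime_iff_eq Fact.out Nat.prime_three).1 ((CharP.cast_eq_zero_iff F p 3).1 h6))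
    rw [card_aut hF, hl, show f * _ = 1 * f * (Fintype.card F - 1) ^ 2 by rw [one_mul]] at h2
    simpa using out_eq h1 h2 hd hH

theorem card_outF4 {p f : ℕ} [Fact p.Prime] [CharP F p] (hF : Fintype.card F = p ^ f) :
    Nat.card (Cfsg.Out ↥(chevF4.group F)) = Nat.gcd 2 p * f := by
  have hw : oppOK tabF4 [0, 1, 0, 2, 1, 0, 2, 1, 2, 3, 2, 1, 0, 2, 1, 2, 3, 2, 1, 0, 2, 1, 2, 3] = true := by
    decide +kernel
  have hp2 : pairsOK tabF4 = true := by decide +kernel
  have hB : coefOK tabF4 weightsF4 = true := by decide +kernel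
  have haut : ((autLevel tabF4 tabF4.l).all fun x => x == List.range tabF4.l || x == [3, 2, 1, 0]) = true := by
    decide +kernel
  let o : Fin tabF4.l := ⟨3, by decide +kernel⟩
  have htree : treeOK tabF4 (List.range tabF4.l) (List.replicate tabF4.l 1) o.1 [(3, 2), (2, 1), (1, 0)] = true := by
    decide +kernel
  have ht : treeOK tabF4 [3, 2, 1, 0] [2, 2, 1, 1] o.1 [(3, 2), (2, 1), (1, 0)] = true := by decide +kernel
  have h1 := card_out_mul certF4 hw (F := F) (p := p)
  have hd : 1 * Nat.card (chevF4.diagonalSubgroup F) = (Fintype.card F - 1) ^ 4 := by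
    rw [one_mul]; exact card_diagonalF4
  have hH : 0 < Nat.card (chevF4.diagonalSubgroup F) := Nat.card_pos
  have hl : tabF4.l = 4 := rfl
  by_cases hp : p = 2
  · subst hp
    have h2 := card_stab_double certF4 hw hp2 hB chkStepF4 haut htree (by unfold Rel.Nbr; decide +kernel)
      mapF4 (cast_zero_of (F := F) (p := 2) rfl) (by decide +kernel) (additive_of (p := 2) (by decide +kernel))
      (e := [2, 2, 1, 1]) (by decide +kernel) ht (by decide +kernel)
    rw [card_aut hF, hl] at h2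
    simpa using out_eq h1 h2 hd hH
  · have h2 := card_stab_single certF4 hw hp2 hB chkStepF4 haut htree (F := F) fun σ g hs hg => by
      exfalso
      obtain ⟨-, h3⟩ := solve ht hs hg
      have h4 := h3 ⟨0, by decide +kernel⟩
      have hadd : ∀ a b : F, (a + b) ^ 2 = a ^ 2 + b ^ 2 := fun a b => by
        have e := map_add (g ⟨0, by decide +kernel⟩) ((g o).symm a) ((g o).symm b)
        simpa [h4] using e
      have h6 : ((2 : ℕ) : F) = 0 := by push_cast; linear_combination hadd 1 1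
      exact hp ((Nat.prime_dvd_prime_iff_eq Fact.out Nat.prime_two).1 ((CharP.cast_eq_zero_iff F p 2).1 h6))
    rw [card_aut hF, hl, show f * _ = 1 * f * (Fintype.card F - 1) ^ 4 by rw [one_mul]] at h2
    have hg : Nat.gcd 2 p = 1 := (Nat.coprime_primes Nat.prime_two Fact.out).2 (Ne.symm hp)
    rw [hg]
    simpa using out_eq h1 h2 hd hH

theorem card_outE6 {p f : ℕ} [Fact p.Prime] [CharP F p] (hF : Fintype.card F = p ^ f) :
    Nat.card (Cfsg.Out ↥(chevE6.group F)) = 2 * Nat.gcd 3 (p ^ f - 1) * f := by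
  have hw : oppOK tabE6 [0, 1, 2, 0, 3, 1, 2, 0, 3, 2, 4, 3, 1, 2, 0, 3, 2, 4, 3, 1, 5, 4, 3, 1, 2, 0, 3, 2, 4, 3, 1,
      5, 4, 3, 2, 0] = true := by decide +kernel
  have hp2 : pairsOK tabE6 = true := by decide +kernel
  have hB : coefOK tabE6 weightsE6 = true := by decide +kernel
  have haut : ((autLevel tabE6 tabE6.l).all fun x => x == List.range tabE6.l || x == [5, 1, 4, 3, 2, 0]) = true := by
    decide +kernel
  let o : Fin tabE6.l := ⟨0, by decide +kernel⟩
  have htree : treeOK tabE6 (List.range tabE6.l) (List.replicate tabE6.l 1) o.1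
      [(0, 2), (2, 3), (3, 1), (3, 4), (4, 5)] = true := by decide +kernel
  have ht : treeOK tabE6 [5, 1, 4, 3, 2, 0] [1, 1, 1, 1, 1, 1] o.1
      [(0, 2), (2, 3), (3, 1), (3, 4), (4, 5)] = true := by decide +kernel
  have h1 := card_out_mul certE6 hw (F := F) (p := p)
  have hH : 0 < Nat.card (chevE6.diagonalSubgroup F) := Nat.card_pos
  have h2 := card_stab_double certE6 hw hp2 hB chkStepE6 haut htree (by unfold Rel.Nbr; decide +kernel)
    mapE6 (F := F) (by simp [mapE6]) (by decide +kernel)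
    (fun r _ a b => by simp [RootMap.e, mapE6]) (e := [1, 1, 1, 1, 1, 1]) (by decide +kernel) ht (by decide +kernel)
  rw [card_aut hF, show tabE6.l = 6 from rfl] at h2
  rw [← hF]
  exact out_eq h1 h2 card_diagonalE6 hH

theorem card_outE7 {p f : ℕ} [Fact p.Prime] [CharP F p] (hF : Fintype.card F = p ^ f) :
    Nat.card (Cfsg.Out ↥(chevE7.group F)) = Nat.gcd 2 (p ^ f - 1) * f := by
  have hw : oppOK tabE7 [0, 1, 2, 0, 3, 1, 2, 0, 3, 2, 4, 3, 1, 2, 0, 3, 2, 4, 3, 1, 5, 4, 3, 1, 2, 0, 3, 2, 4, 3, 1,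
      5, 4, 3, 2, 0, 6, 5, 4, 3, 1, 2, 0, 3, 2, 4, 3, 1, 5, 4, 3, 2, 0, 6, 5, 4, 3, 1, 2, 3, 4, 5, 6] = true := by
    decide +kernel
  have hp2 : pairsOK tabE7 = true := by decide +kernel
  have hB : coefOK tabE7 weightsE7 = true := by decide +kernel
  have haut : ((autLevel tabE7 tabE7.l).all fun x => x == List.range tabE7.l || x == List.range tabE7.l) = true := by
    decide +kernel
  let o : Fin tabE7.l := ⟨0, by decide +kernel⟩
  have htree : treeOK tabE7 (List.range tabE7.l) (List.replicate tabE7.l 1) o.1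
      [(0, 2), (2, 3), (3, 1), (3, 4), (4, 5), (5, 6)] = true := by decide +kernel
  have h1 := card_out_mul certE7 hw (F := F) (p := p)
  have hH : 0 < Nat.card (chevE7.diagonalSubgroup F) := Nat.card_pos
  have h2 := card_stab_single certE7 hw hp2 hB chkStepE7 haut htree (F := F) fun _ _ _ _ => rfl
  rw [card_aut hF, show tabE7.l = 7 from rfl, show f * _ = 1 * f * (Fintype.card F - 1) ^ 7 by rw [one_mul]] at h2
  rw [← hF]
  simpa using out_eq h1 h2 card_diagonalE7 hH

theorem card_outE8 {p f : ℕ} [Fact p.Prime] [CharP F p] (hF : Fintype.card F = p ^ f) :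
    Nat.card (Cfsg.Out ↥(chevE8.group F)) = f := by
  have hw : oppOK tabE8 [0, 1, 2, 0, 3, 1, 2, 0, 3, 2, 4, 3, 1, 2, 0, 3, 2, 4, 3, 1, 5, 4, 3, 1, 2, 0, 3, 2, 4, 3, 1,
      5, 4, 3, 2, 0, 6, 5, 4, 3, 1, 2, 0, 3, 2, 4, 3, 1, 5, 4, 3, 2, 0, 6, 5, 4, 3, 1, 2, 3, 4, 5, 6, 7, 6, 5, 4, 3,
      1, 2, 0, 3, 2, 4, 3, 1, 5, 4, 3, 2, 0, 6, 5, 4, 3, 1, 2, 3, 4, 5, 6, 7, 6, 5, 4, 3, 1, 2, 0, 3, 2, 4, 3, 1, 5,
      4, 3, 2, 0, 6, 5, 4, 3, 1, 2, 3, 4, 5, 6, 7] = true := by
    decide +kernel
  have hp2 : pairsOK tabE8 = true := by decide +kernel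
  have hB : coefOK tabE8 weightsE8 = true := by decide +kernel
  have haut : ((autLevel tabE8 tabE8.l).all fun x => x == List.range tabE8.l || x == List.range tabE8.l) = true := by
    decide +kernel
  let o : Fin tabE8.l := ⟨0, by decide +kernel⟩
  have htree : treeOK tabE8 (List.range tabE8.l) (List.replicate tabE8.l 1) o.1
      [(0, 2), (2, 3), (3, 1), (3, 4), (4, 5), (5, 6), (6, 7)] = true := by decide +kernel
  have h1 := card_out_mul certE8 hw (F := F) (p := p)
  have hH : 0 < Nat.card (chevE8.diagonalSubgroup F) := Nat.card_pos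
  have h2 := card_stab_single certE8 hw hp2 hB chkStepE8 haut htree (F := F) fun _ _ _ _ => rfl
  rw [card_aut hF, show tabE8.l = 8 from rfl, show f * _ = 1 * f * (Fintype.card F - 1) ^ 8 by rw [one_mul]] at h2
  have hd : 1 * Nat.card (chevE8.diagonalSubgroup F) = (Fintype.card F - 1) ^ 8 := by
    rw [one_mul]; exact card_diagonalE8
  simpa using out_eq h1 h2 hd hH

end CfsgLib.ChevAut
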