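/-
Every automorphism is inner, diagonal, graph and field; the shape of the outer automorphism group.
-/
import Mathlib
import Cfsg.Agent.Lib.ChevAut.Types
import Cfsg.Agent.Lib.Chev.CertB2
import Cfsg.Agent.Lib.Chev.CertD4

set_option autoImplicit false
set_option linter.unusedSectionVars false

open Cfsg Cfsg.Lie CfsgLib.Chev
open scoped commutatorElement

namespace CfsgLib.ChevAut

variable {D : ChevalleyDatum} {T : Tab} {C : Tab.Cover}

/-- The checks on the tables of one type. -/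
structure Frame (D : ChevalleyDatum) (T : Tab) (C : Tab.Cover) where
  /-- the certificate -/
  cert : Cert D T C
  /-- the longest word -/
  w : List ℕ
  /-- the weights -/
  B : List (List ℤ)
  opp : oppOK T w = true
  pairs : pairsOK T = true
  coefB : coefOK T B = true
  step : T.chkStep = true
  nbr : Rel.Nbr T

namespace Frame

variable (Φ : Frame D T C) {F : Type*} [Field F] [Finite F]

include Φ in
theorem simple_inj {i j : Fin T.l} (e : T.simple i.1 = T.simple j.1) : i = j := by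
  have h5 := (Φ.cert.simple_spec i.2).2.2.2 i.1 i.2
  rw [e, (Φ.cert.simple_spec j.2).2.2.2 i.1 i.2, if_pos rfl] at h5
  split_ifs at h5 with hij
  · exact Fin.ext hij.symm
  · simp at h5

include Φ in
theorem root_inj {i j : Fin T.l} {a b : F} (ha : a ≠ 0) (e : X D (T.simple i.1) a = X D (T.simple j.1) b) : i = j :=
  Φ.simple_inj (Φ.cert.root_eq_of_X_eq (Φ.cert.simple_lt i.2) (Φ.cert.simple_lt j.2) ha e)

include Φ in
theorem aut_ext {α β : MulAut ↥(D.group F)}
    (h1 : ∀ (i : Fin T.l) (t : F) (x : ↥(D.group F)), (x : GL D.Idx F) = X D (T.simple i) t →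
      (α x : GL D.Idx F) = β x)
    (h2 : ∀ (i : Fin T.l) (t : F) (x : ↥(D.group F)), (x : GL D.Idx F) = X D (T.neg (T.simple i)) t →
      (α x : GL D.Idx F) = β x) : α = β :=
  MulEquiv.toMonoidHom_injective (Φ.cert.hom_ext_simple (fun i hi t x hx => Subtype.ext (h1 ⟨i, hi⟩ t x hx))
    fun i hi t x hx => Subtype.ext (h2 ⟨i, hi⟩ t x hx))

/-- A diagonal automorphism. -/
noncomputable def diag (c : Fin T.l → Fˣ) : MulAut ↥(D.group F) :=
  (exists_diagMap Φ.cert (F := F) Φ.coefB Φ.step c).choose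

theorem diag_spec (c : Fin T.l → Fˣ) : Φ.diag c ∈ stab D F ∧
    (∀ (i : Fin T.l) (t : F) (x : ↥(D.group F)), (x : GL D.Idx F) = X D (T.simple i) t →
      (Φ.diag c x : GL D.Idx F) = X D (T.simple i) (c i * t)) ∧
    (∀ (i : Fin T.l) (t : F) (x : ↥(D.group F)), (x : GL D.Idx F) = X D (T.neg (T.simple i)) t →
      (Φ.diag c x : GL D.Idx F) = X D (T.neg (T.simple i)) ((c i : F)⁻¹ * t)) ∧ D.IsDiagonalAut (Φ.diag c) :=
  (exists_diagMap Φ.cert (F := F) Φ.coefB Φ.step c).choose_spec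

/-- A field automorphism. -/
noncomputable def fld (τ : F ≃+* F) : MulAut ↥(D.group F) := (exists_fieldMap Φ.cert τ).choose

theorem fld_spec (τ : F ≃+* F) : Φ.fld τ ∈ stab D F ∧ (∀ r < T.n, ∀ (t : F) (x : ↥(D.group F)),
    (x : GL D.Idx F) = X D r t → (Φ.fld τ x : GL D.Idx F) = X D r (τ t)) ∧ D.IsFieldAut (Φ.fld τ) :=
  (exists_fieldMap Φ.cert τ).choose_spec

/-- The diagonal automorphisms as a homomorphism. -/
noncomputable def diagHom : (Fin T.l → Fˣ) →* MulAut ↥(D.group F) :=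
  MonoidHom.mk' Φ.diag fun a b => Φ.aut_ext
    (fun i t x hx => by
      rw [(Φ.diag_spec _).2.1 i t x hx, MulAut.mul_apply,
        (Φ.diag_spec a).2.1 i _ _ ((Φ.diag_spec b).2.1 i t x hx), Pi.mul_apply, Units.val_mul, mul_assoc])
    fun i t x hx => by
      rw [(Φ.diag_spec _).2.2.1 i t x hx, MulAut.mul_apply,
        (Φ.diag_spec a).2.2.1 i _ _ ((Φ.diag_spec b).2.2.1 i t x hx), Pi.mul_apply, Units.val_mul, mul_inv, mul_assoc]

/-- The field automorphisms as a homomorphism. -/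
noncomputable def fldHom : (F ≃+* F) →* MulAut ↥(D.group F) :=
  MonoidHom.mk' Φ.fld fun a b => Φ.aut_ext
    (fun i t x hx => by
      rw [(Φ.fld_spec _).2.1 _ (Φ.cert.simple_lt i.2) t x hx, MulAut.mul_apply,
        (Φ.fld_spec a).2.1 _ (Φ.cert.simple_lt i.2) _ _ ((Φ.fld_spec b).2.1 _ (Φ.cert.simple_lt i.2) t x hx)]
      rfl)
    fun i t x hx => by
      have hn := Cert.neg_lt (T := T) (Φ.cert.simple_lt i.2)
      rw [(Φ.fld_spec _).2.1 _ hn t x hx, MulAut.mul_apply,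
        (Φ.fld_spec a).2.1 _ hn _ _ ((Φ.fld_spec b).2.1 _ hn t x hx)]
      rfl

@[simp] theorem diagHom_apply (c : Fin T.l → Fˣ) : Φ.diagHom c = Φ.diag c := rfl

@[simp] theorem fldHom_apply (τ : F ≃+* F) : Φ.fldHom τ = Φ.fld τ := rfl

theorem closure_diag :
    Subgroup.closure {φ : MulAut ↥(D.group F) | D.IsDiagonalAut φ} = (Φ.diagHom (F := F)).range := by
  refine le_antisymm ((Subgroup.closure_le _).2 ?_) ?_
  · rintro φ ⟨χ, hχ, hφ⟩
    have key : ∀ r < T.n, ∀ (t : F) (x : ↥(D.group F)), (x : GL D.Idx F) = X D r t →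
        (φ x : GL D.Idx F) = X D r ((χ r : F) * t) := fun r hr t x hx => Units.ext (by
      rw [hφ, hx, Φ.cert.coe_X, Φ.cert.coe_X, Φ.cert.charDiag_conj Φ.step hχ hr])
    refine ⟨fun i => χ (T.simple i), Φ.aut_ext (fun i t x hx => ?_) fun i t x hx => ?_⟩
    · rw [diagHom_apply, (Φ.diag_spec _).2.1 i t x hx, key _ (Φ.cert.simple_lt i.2) t x hx]
    · rw [diagHom_apply, (Φ.diag_spec _).2.2.1 i t x hx, key _ (Cert.neg_lt (T := T) (Φ.cert.simple_lt i.2)) t x hx,
        ← Φ.cert.neg_eq (Φ.cert.simple_lt i.2), hχ.1 _ (lt_of_lt_of_eq (Φ.cert.simple_lt i.2) Φ.cert.nroots_eq.symm),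
        Units.val_inv_eq_inv_val]
  · rintro _ ⟨c, rfl⟩
    exact Subgroup.subset_closure (Φ.diag_spec c).2.2.2

theorem closure_fld :
    Subgroup.closure {φ : MulAut ↥(D.group F) | D.IsFieldAut φ} = (Φ.fldHom (F := F)).range := by
  refine le_antisymm ((Subgroup.closure_le _).2 ?_) ?_
  · rintro φ ⟨τ, hτ⟩
    have key : ∀ r < T.n, ∀ (t : F) (x : ↥(D.group F)), (x : GL D.Idx F) = X D r t →
        (φ x : GL D.Idx F) = X D r (τ t) := fun r hr t x hx => Units.ext (by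
      rw [Φ.cert.coe_X]
      exact hτ x r t (lt_of_lt_of_eq hr Φ.cert.nroots_eq.symm) (by rw [hx, Φ.cert.coe_X]))
    refine ⟨τ, Φ.aut_ext (fun i t x hx => ?_) fun i t x hx => ?_⟩
    · rw [fldHom_apply, (Φ.fld_spec _).2.1 _ (Φ.cert.simple_lt i.2) t x hx, key _ (Φ.cert.simple_lt i.2) t x hx]
    · have hn := Cert.neg_lt (T := T) (Φ.cert.simple_lt i.2)
      rw [fldHom_apply, (Φ.fld_spec _).2.1 _ hn t x hx, key _ hn t x hx]
  · rintro _ ⟨τ, rfl⟩
    exact Subgroup.subset_closure (Φ.fld_spec τ).2.2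

/-- What an element of the stabiliser does on the simple root elements. -/
def Params (α : MulAut ↥(D.group F)) (σ : Fin T.l → Fin T.l) (g : Fin T.l → (F ≃+* F)) (c : Fin T.l → Fˣ) : Prop :=
  Function.Bijective σ ∧
    (∀ (i : Fin T.l) (t : F) (x : ↥(D.group F)), (x : GL D.Idx F) = X D (T.simple i) t →
      (α x : GL D.Idx F) = X D (T.simple (σ i)) (c i * g i t)) ∧
    (∀ (i : Fin T.l) (t : F) (x : ↥(D.group F)), (x : GL D.Idx F) = X D (T.neg (T.simple i)) t →
      (α x : GL D.Idx F) = X D (T.neg (T.simple (σ i))) ((c i : F)⁻¹ * g i t)) ∧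
    (∀ i j : Fin T.l, (T.car i (T.simple j) = 0 ↔ T.car (σ i) (T.simple (σ j)) = 0)) ∧
    ∀ (i j : Fin T.l) (t : F), t ≠ 0 →
      g j (t ^ T.car i (T.simple j)) = g i t ^ T.car (σ i) (T.simple (σ j))

include Φ in
theorem exists_Params {α : MulAut ↥(D.group F)} (hα : α ∈ stab D F) :
    ∃ σ g c, Params (T := T) α σ g c := exists_params Φ.cert Φ.opp Φ.pairs hα

/-- Every stabilising automorphism has the node map of a graph automorphism. -/
def Realised (D : ChevalleyDatum) (T : Tab) (F : Type*) [Field F] (o : Fin T.l) : Prop :=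
  ∀ α ∈ stab D F, ∀ σ g c, Params (T := T) (D := D) (F := F) α σ g c →
    ∃ N : NodeMap D T F, D.IsGraphAut N.φ ∧ N.σ = σ ∧ ∀ i t, g i t = g o t ^ N.e i

theorem form {α : MulAut ↥(D.group F)} {σ : Fin T.l → Fin T.l} {g : Fin T.l → (F ≃+* F)} {c : Fin T.l → Fˣ}
    (hP : Params (T := T) α σ g c) {o : Fin T.l} {N : NodeMap D T F} (hσ : N.σ = σ)
    (hg : ∀ i t, g i t = g o t ^ N.e i) :
    α = Φ.diag (c ∘ (Equiv.ofBijective _ N.bij).symm) * N.φ * Φ.fld (g o) := by
  obtain ⟨-, hpos, hneg, -, -⟩ := hP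
  refine Φ.aut_ext (fun i t x hx => ?_) fun i t x hx => ?_
  · rw [hpos i t x hx, hg i t, MulAut.mul_apply, MulAut.mul_apply,
      (Φ.diag_spec _).2.1 (N.σ i) _ _ (N.pos i _ _ ((Φ.fld_spec _).2.1 _ (Φ.cert.simple_lt i.2) t x hx)),
      Function.comp_apply, show (Equiv.ofBijective _ N.bij).symm (N.σ i) = i from
        (Equiv.ofBijective _ N.bij).symm_apply_apply i, hσ]
  · rw [hneg i t x hx, hg i t, MulAut.mul_apply, MulAut.mul_apply,
      (Φ.diag_spec _).2.2.1 (N.σ i) _ _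
        (N.neg i _ _ ((Φ.fld_spec _).2.1 _ (Cert.neg_lt (T := T) (Φ.cert.simple_lt i.2)) t x hx)),
      Function.comp_apply, show (Equiv.ofBijective _ N.bij).symm (N.σ i) = i from
        (Equiv.ofBijective _ N.bij).symm_apply_apply i, hσ]

include Φ in
/-- The decomposition. -/
theorem decomp {o : Fin T.l} (hR : Realised D T F o) (θ : MulAut ↥(D.group F)) :
    ∃ (x : ↥(D.group F)) (d g f : ↥(D.group F) ≃* ↥(D.group F)),
      D.IsDiagonalAut d ∧ D.IsGraphAut g ∧ D.IsFieldAut f ∧ ∀ y : ↥(D.group F), θ y = x * d (g (f y)) * x⁻¹ := by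
  haveI : Fintype F := Fintype.ofFinite F
  obtain ⟨p, hp⟩ := CharP.exists F
  haveI : Fact p.Prime := ⟨CharP.char_is_prime F p⟩
  obtain ⟨x, hx⟩ := exists_stab Φ.cert Φ.opp (p := p) θ
  obtain ⟨σ, g, c, hP⟩ := Φ.exists_Params hx
  obtain ⟨N, hN, hσ, hg⟩ := hR _ hx σ g c hP
  have e := Φ.form hP hσ hg
  refine ⟨x⁻¹, Φ.diag (c ∘ (Equiv.ofBijective _ N.bij).symm), N.φ, Φ.fld (g o), (Φ.diag_spec _).2.2.2, hN, (Φ.fld_spec (g o)).2.2, fun y => ?_⟩
  have e2 := DFunLike.congr_fun e y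
  simp only [MulAut.mul_apply, MulAut.conj_apply] at e2
  rw [← e2]
  group

/-! ### The permutation of the nodes -/

/-- The node map of a stabilising automorphism. -/
noncomputable def node (α : ↥(stab D F)) (i : Fin T.l) : Fin T.l :=
  ⟨(perm_pos Φ.cert Φ.opp α.2 i.2).choose, (perm_pos Φ.cert Φ.opp α.2 i.2).choose_spec.1⟩

theorem node_spec (α : ↥(stab D F)) (i : Fin T.l) :
    (rG D F (T.simple i)).map α.1.toMonoidHom = rG D F (T.simple (Φ.node α i)) :=
  (perm_pos Φ.cert Φ.opp α.2 i.2).choose_spec.2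

include Φ in
theorem rG_inj {i j : Fin T.l} (e : rG D F (T.simple i.1) = rG D F (T.simple j.1)) : i = j := by
  have h1 : xE Φ.cert (Φ.cert.simple_lt i.2) (1 : F) ∈ rG D F (T.simple j.1) :=
    e ▸ (mem_rG Φ.cert (Φ.cert.simple_lt i.2)).2 ⟨1, rfl⟩
  obtain ⟨t, ht⟩ := (mem_rG Φ.cert (Φ.cert.simple_lt j.2)).1 h1
  exact Φ.root_inj one_ne_zero ht

theorem node_eq {α : ↥(stab D F)} {i j : Fin T.l}
    (e : (rG D F (T.simple i)).map α.1.toMonoidHom = rG D F (T.simple j)) : Φ.node α i = j :=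
  Φ.rG_inj ((Φ.node_spec α i).symm.trans e)

theorem node_params {α : ↥(stab D F)} {σ : Fin T.l → Fin T.l} {g : Fin T.l → (F ≃+* F)} {c : Fin T.l → Fˣ}
    (hP : Params (T := T) α.1 σ g c) : Φ.node α = σ := by
  funext i
  have h1 : α.1 (xE Φ.cert (Φ.cert.simple_lt i.2) 1) ∈ rG D F (T.simple (Φ.node α i)) := by
    rw [← Φ.node_spec α i]
    exact Subgroup.mem_map_of_mem α.1.toMonoidHom ((mem_rG Φ.cert (Φ.cert.simple_lt i.2)).2 ⟨1, rfl⟩)
  obtain ⟨t, ht⟩ := (mem_rG Φ.cert (Φ.cert.simple_lt (Φ.node α i).2)).1 h1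
  rw [hP.2.1 i 1 _ rfl, map_one, mul_one] at ht
  exact (Φ.root_inj (c i).ne_zero ht).symm

theorem node_bijective (α : ↥(stab D F)) : Function.Bijective (Φ.node α) := by
  refine (Finite.injective_iff_bijective (f := Φ.node α)).1 fun i j e => Φ.rG_inj (F := F) ?_
  have h := (Φ.node_spec α i).trans (by rw [e, ← Φ.node_spec α j])
  exact Subgroup.map_injective (f := α.1.toMonoidHom) α.1.injective h

/-- The action on the nodes. -/
noncomputable def nodeHom : ↥(stab D F) →* Equiv.Perm (Fin T.l) :=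
  MonoidHom.mk' (fun α => Equiv.ofBijective _ (Φ.node_bijective α)) fun a b => Equiv.ext fun i => by
    show Φ.node (a * b) i = Φ.node a (Φ.node b i)
    refine Φ.node_eq ?_
    rw [← Φ.node_spec a, ← Φ.node_spec b, Subgroup.map_map]
    rfl

@[simp] theorem nodeHom_apply (α : ↥(stab D F)) (i : Fin T.l) : Φ.nodeHom α i = Φ.node α i := rfl

/-- The map to the outer automorphism group. -/
noncomputable def toOut : ↥(stab D F) →* Out ↥(D.group F) := (QuotientGroup.mk' _).comp (stab D F).subtype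

include Φ in
theorem toOut_surjective : Function.Surjective (toOut (D := D) (F := F)) := by
  haveI : Fintype F := Fintype.ofFinite F
  obtain ⟨p, hp⟩ := CharP.exists F
  haveI : Fact p.Prime := ⟨CharP.char_is_prime F p⟩
  intro y
  obtain ⟨θ, rfl⟩ := QuotientGroup.mk'_surjective _ y
  obtain ⟨x, hx⟩ := exists_stab Φ.cert Φ.opp (p := p) θ
  refine ⟨⟨_, hx⟩, ?_⟩
  have e : QuotientGroup.mk' (Inn ↥(D.group F)) (MulAut.conj x) = 1 := (QuotientGroup.eq_one_iff _).2 ⟨x, rfl⟩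
  show QuotientGroup.mk' (Inn ↥(D.group F)) (MulAut.conj x * θ) = _
  rw [map_mul, e, one_mul]

theorem ker_toOut_le : (toOut (D := D) (F := F)).ker ≤ (Φ.nodeHom (F := F)).ker := by
  haveI : Fintype F := Fintype.ofFinite F
  intro α hα
  rw [MonoidHom.mem_ker] at hα ⊢
  obtain ⟨g, hg⟩ := (QuotientGroup.eq_one_iff _).1 hα
  have hgs : MulAut.conj g ∈ stab D F := by rw [hg]; exact α.2
  have hgT := mem_tG_of_conj_mem_stab Φ.cert Φ.opp hgs
  refine Equiv.ext fun i => Φ.node_eq ?_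
  rw [show α.1 = MulAut.conj g from hg.symm]
  show _ = rG D F (T.simple i.1)
  haveI := finite_group (D := D) (F := F)
  refine Subgroup.eq_of_le_of_card_ge ?_ (Subgroup.card_map_of_injective (MulEquiv.injective _)).ge
  rintro _ ⟨x, hx, rfl⟩
  obtain ⟨t, ht⟩ := (mem_rG Φ.cert (Φ.cert.simple_lt i.2)).1 hx
  obtain ⟨a, -, ea⟩ := Φ.cert.Maps_diagonal (Subgroup.mem_subgroupOf.1 hgT) (Φ.cert.simple_lt i.2)
  refine (mem_rG Φ.cert (Φ.cert.simple_lt i.2)).2 ⟨a * t, ?_⟩
  show (MulAut.conj g x : GL D.Idx F) = _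
  rw [MulAut.conj_apply, Subgroup.coe_mul, Subgroup.coe_mul, Subgroup.coe_inv, ht]
  exact ea t

/-- The trivial tree. -/
def TrivTree (T : Tab) (o : Fin T.l) : Prop :=
  ∃ L : List (ℕ × ℕ), treeOK T (List.range T.l) (List.replicate T.l 1) o.1 L = true

theorem ker_nodeHom {o : Fin T.l} (htree : TrivTree T o) :
    (Φ.nodeHom (F := F)).ker.map (stab D F).subtype = (Φ.diagHom (F := F)).range ⊔ (Φ.fldHom (F := F)).range := by
  refine le_antisymm ?_ (sup_le ?_ ?_)
  · rintro _ ⟨α, hα, rfl⟩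
    rw [SetLike.mem_coe, MonoidHom.mem_ker] at hα
    obtain ⟨σ, g, c, hP⟩ := Φ.exists_Params α.2
    obtain ⟨L, hL⟩ := htree
    have hσ : σ = id := funext fun i => by
      rw [← Φ.node_params hP, ← Φ.nodeHom_apply, hα]; rfl
    have hs : (List.ofFn fun i => (σ i).1) = List.range T.l := by
      rw [hσ]; exact List.ext_getElem (by simp) (by simp)
    haveI : Fintype F := Fintype.ofFinite F
    obtain ⟨h1, h2⟩ := triv_case (D := D) hL hs hP.2.2.2.2
    show α.1 ∈ _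
    rw [Φ.form hP h1 h2, show (NodeMap.triv D T F).φ = 1 from rfl, mul_one]
    exact Subgroup.mul_mem_sup ⟨_, rfl⟩ ⟨_, rfl⟩
  · rintro _ ⟨c, rfl⟩
    refine ⟨⟨_, (Φ.diag_spec c).1⟩, ?_, rfl⟩
    refine MonoidHom.mem_ker.2 (Equiv.ext fun i => ?_)
    rw [Φ.nodeHom_apply]
    have hP : Params (T := T) (Φ.diag c) id (fun _ => RingEquiv.refl F) c :=
      ⟨Function.bijective_id, (Φ.diag_spec c).2.1, (Φ.diag_spec c).2.2.1, fun i j => Iff.rfl, fun i j t ht => rfl⟩
    rw [Φ.node_params (α := ⟨_, (Φ.diag_spec c).1⟩) hP]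
    rfl
  · rintro _ ⟨τ, rfl⟩
    refine ⟨⟨_, (Φ.fld_spec τ).1⟩, ?_, rfl⟩
    refine MonoidHom.mem_ker.2 (Equiv.ext fun i => ?_)
    rw [Φ.nodeHom_apply]
    have hP : Params (T := T) (Φ.fld τ) id (fun _ => τ) (fun _ => (1 : Fˣ)) :=
      ⟨Function.bijective_id, fun i t x hx => by simpa using (Φ.fld_spec τ).2.1 _ (Φ.cert.simple_lt i.2) t x hx,
        fun i t x hx => by simpa using (Φ.fld_spec τ).2.1 _ (Cert.neg_lt (T := T) (Φ.cert.simple_lt i.2)) t x hx,
        fun i j => Iff.rfl, fun i j t ht => map_zpow₀ τ t _⟩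
    rw [Φ.node_params (α := ⟨_, (Φ.fld_spec τ).1⟩) hP]
    rfl

include Φ in
theorem diag_normalised {α : MulAut ↥(D.group F)} (hα : α ∈ stab D F) (d : Fin T.l → Fˣ) :
    α * Φ.diag d * α⁻¹ ∈ (Φ.diagHom (F := F)).range := by
  obtain ⟨σ, g, c, hσb, hpos, hneg, -, -⟩ := Φ.exists_Params hα
  let e := Equiv.ofBijective σ hσb
  refine ⟨fun j => Units.map (g (e.symm j)).toMonoidHom (d (e.symm j)), ?_⟩
  rw [diagHom_apply, eq_mul_inv_iff_mul_eq]
  refine Φ.aut_ext (fun i t x hx => ?_) fun i t x hx => ?_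
  · rw [MulAut.mul_apply, MulAut.mul_apply, (Φ.diag_spec _).2.1 (σ i) _ _ (hpos i t x hx),
      hpos i _ _ ((Φ.diag_spec d).2.1 i t x hx), show e.symm (σ i) = i from e.symm_apply_apply i, map_mul]
    congr 1
    show g i (d i : F) * _ = _
    ring
  · rw [MulAut.mul_apply, MulAut.mul_apply, (Φ.diag_spec _).2.2.1 (σ i) _ _ (hneg i t x hx),
      hneg i _ _ ((Φ.diag_spec d).2.2.1 i t x hx), show e.symm (σ i) = i from e.symm_apply_apply i, map_mul,
      map_inv₀]
    congr 1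
    show (g i (d i : F))⁻¹ * _ = _
    ring

include Φ in
/-- The shape of `Out`. -/
theorem out_structure {o : Fin T.l} (htree : TrivTree T o) (Dbar Fbar : Subgroup (Out ↥(D.group F)))
    (hDbar : Dbar = (Subgroup.closure {φ : MulAut ↥(D.group F) | D.IsDiagonalAut φ}).map
      (QuotientGroup.mk' (Inn ↥(D.group F))))
    (hFbar : Fbar = (Subgroup.closure {φ : MulAut ↥(D.group F) | D.IsFieldAut φ}).map
      (QuotientGroup.mk' (Inn ↥(D.group F)))) :
    (Dbar.Normal ∧ IsMulCommutative ↥Dbar ∧ IsCyclic ↥Fbar ∧ (Dbar ⊔ Fbar).Normal) ∧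
      (Dbar ⊔ Fbar).index = Nat.card (Φ.nodeHom (F := F)).range ∧
      (commutator (Out ↥(D.group F)) ≤ Dbar ⊔ Fbar →
        ∀ a b : ↥(stab D F), Φ.nodeHom a * Φ.nodeHom b = Φ.nodeHom b * Φ.nodeHom a) := by
  rw [Φ.closure_diag] at hDbar
  rw [Φ.closure_fld] at hFbar
  have hsup : Dbar ⊔ Fbar = (Φ.nodeHom (F := F)).ker.map (toOut (D := D) (F := F)) := by
    rw [hDbar, hFbar, ← Subgroup.map_sup, ← Φ.ker_nodeHom htree, Subgroup.map_map]
    rfl
  have hDs : Dbar = ((Φ.diagHom (F := F)).range.subgroupOf (stab D F)).map (toOut (D := D) (F := F)) := by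
    rw [toOut, ← Subgroup.map_map, Subgroup.map_subgroupOf_eq_of_le, hDbar]
    rintro _ ⟨c, rfl⟩
    exact (Φ.diag_spec c).1
  have hsurj := Φ.toOut_surjective (F := F)
  refine ⟨⟨?_, ?_, ?_, ?_⟩, ?_, ?_⟩
  · haveI : ((Φ.diagHom (F := F)).range.subgroupOf (stab D F)).Normal := ⟨fun d hd a => by
      obtain ⟨c, hc⟩ := Subgroup.mem_subgroupOf.1 hd
      rw [Subgroup.mem_subgroupOf, Subgroup.coe_mul, Subgroup.coe_mul, Subgroup.coe_inv, ← hc]
      exact Φ.diag_normalised a.2 c⟩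
    rw [hDs]
    exact Subgroup.Normal.map inferInstance _ hsurj
  · rw [hDbar, MonoidHom.map_range]
    refine ⟨⟨?_⟩⟩
    rintro ⟨_, a, rfl⟩ ⟨_, b, rfl⟩
    refine Subtype.ext ?_
    show _ * _ = _ * _
    rw [← map_mul, mul_comm, map_mul]
  · rw [hFbar, MonoidHom.map_range]
    haveI : Fintype F := Fintype.ofFinite F
    obtain ⟨p, hp⟩ := CharP.exists F
    haveI : Fact p.Prime := ⟨CharP.char_is_prime F p⟩
    obtain ⟨n, hpp, hn⟩ := FiniteField.card F p
    haveI := (CfsgLib.AutPSL.card_ringAut_isCyclic (p := p) hn n.pos).1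
    exact isCyclic_of_surjective _ (((QuotientGroup.mk' _).comp (Φ.fldHom (F := F))).rangeRestrict_surjective)
  · rw [hsup]
    exact Subgroup.Normal.map inferInstance _ hsurj
  · rw [hsup, Subgroup.index_map_eq _ hsurj Φ.ker_toOut_le, Subgroup.index_ker]
  · intro hle a b
    have h1 : toOut (D := D) (F := F) ⁅a, b⁆ ∈ Dbar ⊔ Fbar := by
      refine hle ?_
      rw [map_commutatorElement, commutator_def]
      exact Subgroup.commutator_mem_commutator (Subgroup.mem_top _) (Subgroup.mem_top _)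
    rw [hsup] at h1
    obtain ⟨k, hk, e⟩ := h1
    have h2 : ⁅a, b⁆ ∈ (Φ.nodeHom (F := F)).ker := by
      have : k⁻¹ * ⁅a, b⁆ ∈ (Φ.nodeHom (F := F)).ker := Φ.ker_toOut_le (by
        rw [MonoidHom.mem_ker, map_mul, map_inv, e, inv_mul_cancel])
      simpa using mul_mem hk this
    rw [MonoidHom.mem_ker, map_commutatorElement, commutatorElement_eq_one_iff_mul_comm] at h2
    exact h2

end Frame

end CfsgLib.ChevAut
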