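/-
Decomposition and shape of `Out` for the seven types.
-/
import Mathlib
import Cfsg.Agent.Lib.ChevAut.Decomp

set_option autoImplicit false
set_option linter.unusedSectionVars false

open Cfsg Cfsg.Lie CfsgLib.Chev

namespace CfsgLib.ChevAut

/-- The node list is a symmetry with the exponents `e`. -/
def symOK (D : ChevalleyDatum) (l : ℕ) (s e : List ℕ) (c : ℕ) : Bool :=
  (List.range l).all fun i => decide (D.graphExp c i (s.getD i 0) = e.getD i 0) &&
    (List.range l).all fun j => decide (i = j) || decide (D.bonds (s.getD i 0) (s.getD j 0) = D.bonds i j)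

variable {D : ChevalleyDatum} {T : Tab} {C : Tab.Cover} (Φ : Frame D T C) {F : Type*} [Field F] [Finite F]

include Φ in
theorem isGraph_of (N : NodeMap D T F) {s e : List ℕ} {c : ℕ} (hsym : symOK D T.l s e c = true)
    (hs : ∀ i, (N.σ i).1 = s.getD i.1 0) (he : ∀ i, N.e i = e.getD i.1 0)
    (hc : ringChar F = c ∨ (c = 0 ∧ ∀ i < T.l, e.getD i 0 = 1)) : D.IsGraphAut N.φ := by
  simp only [symOK, List.all_eq_true, List.mem_range, Bool.and_eq_true, Bool.or_eq_true, decide_eq_true_eq] at hsym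
  have hr := Φ.cert.rank_eq
  let eqv : Fin D.rank ≃ Fin T.l := finCongr hr
  let π : Equiv.Perm (Fin D.rank) := (eqv.trans (Equiv.ofBijective _ N.bij)).trans eqv.symm
  have hπ : ∀ i : Fin D.rank, (π i).1 = s.getD i.1 0 := fun i => hs (eqv i)
  refine ⟨π, fun i j hij => ?_, fun g i t => ?_⟩
  · rw [hπ, hπ]
    exact ((hsym i.1 (lt_of_lt_of_eq i.2 hr)).2 j.1 (lt_of_lt_of_eq j.2 hr)).resolve_left fun e => hij (Fin.ext e)
  have hi : i.1 < T.l := lt_of_lt_of_eq i.2 hr
  have hj : (π i).1 < T.l := lt_of_lt_of_eq (π i).2 hr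
  have hexp : D.graphExp (ringChar F) i.1 (π i).1 = N.e ⟨i.1, hi⟩ := by
    rw [he, hπ]
    rcases hc with hc | ⟨rfl, h1⟩
    · rw [hc]; exact (hsym i.1 hi).1
    · have h0 := (hsym i.1 hi).1
      rw [h1 i.1 hi] at h0 ⊢
      unfold ChevalleyDatum.graphExp at h0 ⊢
      split_ifs at h0 ⊢ with hcond
      rfl
  have hσi : (N.σ ⟨i.1, hi⟩).1 = (π i).1 := by rw [hs, hπ]
  have hp := Φ.cert.simple_lt hi
  have hq := Φ.cert.simple_lt hj
  rw [hexp, Φ.cert.simple_eq hi, Φ.cert.simple_eq hj, Φ.cert.neg_eq hp, Φ.cert.neg_eq hq]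
  constructor
  · intro hg
    rw [← Φ.cert.coe_X] at hg ⊢
    exact congrArg Units.val ((N.pos ⟨i.1, hi⟩ t g (Units.ext hg)).trans (by rw [hσi]))
  · intro hg
    rw [← Φ.cert.coe_X] at hg ⊢
    exact congrArg Units.val ((N.neg ⟨i.1, hi⟩ t g (Units.ext hg)).trans (by rw [hσi]))

include Φ in
theorem isGraph_triv : D.IsGraphAut (NodeMap.triv D T F).φ := by
  refine ⟨1, fun i j hij => rfl, fun g i t => ?_⟩
  have hexp : D.graphExp (ringChar F) i.1 i.1 = 1 := by
    simp [ChevalleyDatum.graphExp]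
  show (_ → ((g : GL D.Idx F) : Matrix D.Idx D.Idx F) = _) ∧ (_ → ((g : GL D.Idx F) : Matrix D.Idx D.Idx F) = _)
  rw [Equiv.Perm.one_apply, hexp, pow_one]
  exact ⟨id, id⟩

/-- What has to be shown for a node list. -/
def Handled (D : ChevalleyDatum) (T : Tab) (F : Type*) [Field F] (o : Fin T.l) (s : List ℕ) : Prop :=
  ∀ α ∈ stab D F, ∀ σ g c, Frame.Params (T := T) (D := D) (F := F) α σ g c → (List.ofFn fun i => (σ i).1) = s →
    ∃ N : NodeMap D T F, D.IsGraphAut N.φ ∧ N.σ = σ ∧ ∀ i t, g i t = g o t ^ N.e i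

include Φ in
theorem handled_triv {o : Fin T.l} (htree : Frame.TrivTree T o) : Handled D T F o (List.range T.l) := by
  haveI : Fintype F := Fintype.ofFinite F
  obtain ⟨L, hL⟩ := htree
  intro α _ σ g c hP hs
  obtain ⟨h1, h2⟩ := triv_case (D := D) hL hs hP.2.2.2.2
  exact ⟨_, isGraph_triv Φ, h1, h2⟩

include Φ in
theorem handled_map {o : Fin T.l} {s e : List ℕ} {L : List (ℕ × ℕ)} {cc : ℕ} (R : RootMap)
    (hp : (R.modp : F) = 0) (hok : R.ok T = true) (hadd : R.Additive T F) (hn : nodeOK T R s e = true)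
    (ht : treeOK T s e o.1 L = true) (hsym : symOK D T.l s e cc = true)
    (hc : ringChar F = cc ∨ (cc = 0 ∧ ∀ i < T.l, e.getD i 0 = 1)) : Handled D T F o s := by
  haveI : Fintype F := Fintype.ofFinite F
  intro α _ σ g c hP hs
  obtain ⟨N, hσ, he⟩ := exists_nodeMap Φ.cert (F := F) Φ.nbr R hp hok hadd hn
  obtain ⟨h1, h2⟩ := solve ht hs hP.2.2.2.2
  refine ⟨N, isGraph_of Φ N hsym hσ he hc, funext fun i => Fin.ext (by rw [hσ, h1]), fun i t => ?_⟩
  rw [he, h2]

include Φ in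
/-- Over the field with two elements every exponent will do. -/
theorem handled_two {o : Fin T.l} {s e : List ℕ} {L : List (ℕ × ℕ)} (ht : treeOK T s e o.1 L = true)
    {e' : List ℕ} (hsym : symOK D T.l s e' 2 = true) (he' : ∀ i < T.l, 0 < e'.getD i 0)
    (h2 : ∀ t : F, t = 0 ∨ t = 1) : Handled D T F o s := by
  haveI : Fintype F := Fintype.ofFinite F
  intro α hα σ g c hP hs
  obtain ⟨h1, -⟩ := solve ht hs hP.2.2.2.2
  have hg : ∀ i t, g i t = t := fun i t => by rcases h2 t with rfl | rfl <;> simp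
  have hc : ∀ i, (c i : F) = 1 := fun i => (h2 _).resolve_left (c i).ne_zero
  have hpow : ∀ (i : Fin T.l) (t : F), t ^ e'.getD i.1 0 = t := fun i t => by
    rcases h2 t with rfl | rfl
    · exact zero_pow (he' i.1 i.2).ne'
    · exact one_pow _
  let N : NodeMap D T F :=
    { σ := σ, e := fun i => e'.getD i.1 0, φ := α, bij := hP.1, mem := hα,
      pos := fun i t x hx => by rw [hP.2.1 i t x hx, hc, one_mul, hg, hpow],
      neg := fun i t x hx => by rw [hP.2.2.1 i t x hx, hc, inv_one, one_mul, hg, hpow] }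
  have h20 : ((2 : ℕ) : F) = 0 := by
    rcases h2 (1 + 1) with h | h
    · push_cast; linear_combination h
    · exact absurd (show (1 : F) = 0 by linear_combination h) one_ne_zero
  refine ⟨N, isGraph_of Φ N hsym h1 (fun i => rfl) (Or.inl (CharP.ringChar_of_prime_eq_zero Nat.prime_two h20)),
    rfl, fun i t => ?_⟩
  show g i t = g o t ^ e'.getD i.1 0
  rw [hg, hg, hpow]

theorem handled_false {o : Fin T.l} {s e : List ℕ} {L : List (ℕ × ℕ)} (ht : treeOK T s e o.1 L = true)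
    (hno : ∀ g : Fin T.l → (F ≃+* F), (∀ i t, g i t = g o t ^ e.getD i.1 0) → False) : Handled D T F o s := by
  haveI : Fintype F := Fintype.ofFinite F
  intro α _ σ g c hP hs
  obtain ⟨-, h2⟩ := solve ht hs hP.2.2.2.2
  exact (hno g h2).elim

theorem realised_of {o : Fin T.l} {Ls : List (List ℕ)} (haut : ((autLevel T T.l).all fun x => Ls.contains x) = true)
    (hcase : ∀ s ∈ Ls, Handled D T F o s) : Frame.Realised D T F o := by
  intro α hα σ g c hP
  simp only [List.all_eq_true, List.contains_iff_mem] at haut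
  exact hcase _ (haut _ (mem_autLevel_top σ hP.1.1 hP.2.2.2.1)) α hα σ g c hP rfl

include Φ in
theorem card_range_le {Ls : List (List ℕ)} (haut : ((autLevel T T.l).all fun x => Ls.contains x) = true) :
    Nat.card (Φ.nodeHom (F := F)).range ≤ Ls.toFinset.card := by
  simp only [List.all_eq_true, List.contains_iff_mem] at haut
  rw [← Nat.card_eq_finsetCard]
  have hmem : ∀ π : ↥(Φ.nodeHom (F := F)).range, (List.ofFn fun i => (π.1 i).1) ∈ Ls.toFinset := by
    rintro ⟨_, α, rfl⟩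
    obtain ⟨σ, g, c, hP⟩ := Φ.exists_Params α.2
    rw [List.mem_toFinset]
    simp only [Frame.nodeHom_apply, Φ.node_params hP]
    exact haut _ (mem_autLevel_top σ hP.1.1 hP.2.2.2.1)
  refine Nat.card_le_card_of_injective (fun π => (⟨_, hmem π⟩ : ↥Ls.toFinset)) fun a b e => ?_
  refine Subtype.ext (Equiv.ext fun i => Fin.ext ?_)
  exact congrFun (List.ofFn_injective (congrArg Subtype.val e)) i

include Φ in
theorem node_of_map (N : NodeMap D T F) : Φ.node ⟨N.φ, N.mem⟩ = N.σ := by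
  funext i
  have h1 : N.φ (xE Φ.cert (Φ.cert.simple_lt i.2) 1) ∈ rG D F (T.simple (Φ.node ⟨N.φ, N.mem⟩ i)) := by
    rw [← Φ.node_spec ⟨N.φ, N.mem⟩ i]
    exact Subgroup.mem_map_of_mem N.φ.toMonoidHom ((mem_rG Φ.cert (Φ.cert.simple_lt i.2)).2 ⟨1, rfl⟩)
  obtain ⟨t, ht⟩ := (mem_rG Φ.cert (Φ.cert.simple_lt (Φ.node ⟨N.φ, N.mem⟩ i).2)).1 h1
  rw [N.pos i 1 _ rfl, one_pow] at ht
  exact (Φ.root_inj one_ne_zero ht).symm

/-! ### Data -/

/-- `G₂`. -/
noncomputable def frameG2 : Frame chevG2 tabG2 coverG2 where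
  cert := certG2
  w := [0, 1, 0, 1, 0, 1]
  B := weightsG2
  opp := by decide +kernel
  pairs := by decide +kernel
  coefB := by decide +kernel
  step := chkStepG2
  nbr := by unfold Rel.Nbr; decide +kernel

/-- `B₂`. -/
noncomputable def frameB2 : Frame chevB2 tabB2 coverB2 where
  cert := certB2
  w := [0, 1, 0, 1]
  B := weightsB2
  opp := by decide +kernel
  pairs := by decide +kernel
  coefB := by decide +kernel
  step := chkStepB2
  nbr := by unfold Rel.Nbr; decide +kernel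

/-- `D₄`. -/
noncomputable def frameD4 : Frame chevD4 tabD4 coverD4 where
  cert := certD4
  w := [0, 1, 0, 2, 1, 0, 3, 1, 0, 2, 1, 3]
  B := weightsD4
  opp := by decide +kernel
  pairs := by decide +kernel
  coefB := by decide +kernel
  step := chkStepD4
  nbr := by unfold Rel.Nbr; decide +kernel

/-- `F₄`. -/
noncomputable def frameF4 : Frame chevF4 tabF4 coverF4 where
  cert := certF4
  w := [0, 1, 0, 2, 1, 0, 2, 1, 2, 3, 2, 1, 0, 2, 1, 2, 3, 2, 1, 0, 2, 1, 2, 3]
  B := weightsF4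
  opp := by decide +kernel
  pairs := by decide +kernel
  coefB := by decide +kernel
  step := chkStepF4
  nbr := by unfold Rel.Nbr; decide +kernel

/-- `E₆`. -/
noncomputable def frameE6 : Frame chevE6 tabE6 coverE6 where
  cert := certE6
  w := [0, 1, 2, 0, 3, 1, 2, 0, 3, 2, 4, 3, 1, 2, 0, 3, 2, 4, 3, 1, 5, 4, 3, 1, 2, 0, 3, 2, 4, 3, 1, 5, 4, 3, 2, 0]
  B := weightsE6
  opp := by decide +kernel
  pairs := by decide +kernel
  coefB := by decide +kernel
  step := chkStepE6
  nbr := by unfold Rel.Nbr; decide +kernel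

/-- `E₇`. -/
noncomputable def frameE7 : Frame chevE7 tabE7 coverE7 where
  cert := certE7
  w := [0, 1, 2, 0, 3, 1, 2, 0, 3, 2, 4, 3, 1, 2, 0, 3, 2, 4, 3, 1, 5, 4, 3, 1, 2, 0, 3, 2, 4, 3, 1, 5, 4, 3, 2, 0,
    6, 5, 4, 3, 1, 2, 0, 3, 2, 4, 3, 1, 5, 4, 3, 2, 0, 6, 5, 4, 3, 1, 2, 3, 4, 5, 6]
  B := weightsE7
  opp := by decide +kernel
  pairs := by decide +kernel
  coefB := by decide +kernel
  step := chkStepE7
  nbr := by unfold Rel.Nbr; decide +kernel

/-- `E₈`. -/
noncomputable def frameE8 : Frame chevE8 tabE8 coverE8 where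
  cert := certE8
  w := [0, 1, 2, 0, 3, 1, 2, 0, 3, 2, 4, 3, 1, 2, 0, 3, 2, 4, 3, 1, 5, 4, 3, 1, 2, 0, 3, 2, 4, 3, 1, 5, 4, 3, 2, 0,
    6, 5, 4, 3, 1, 2, 0, 3, 2, 4, 3, 1, 5, 4, 3, 2, 0, 6, 5, 4, 3, 1, 2, 3, 4, 5, 6, 7, 6, 5, 4, 3, 1, 2, 0, 3, 2,
    4, 3, 1, 5, 4, 3, 2, 0, 6, 5, 4, 3, 1, 2, 3, 4, 5, 6, 7, 6, 5, 4, 3, 1, 2, 0, 3, 2, 4, 3, 1, 5, 4, 3, 2, 0, 6, 5,
    4, 3, 1, 2, 3, 4, 5, 6, 7]
  B := weightsE8
  opp := by decide +kernel
  pairs := by decide +kernel
  coefB := by decide +kernel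
  step := chkStepE8
  nbr := by unfold Rel.Nbr; decide +kernel

/-- The graph map of `B₂`. -/
def mapB2 : RootMap := ⟨[1, 0, 3, 2, 5, 4, 7, 6], [], [1, 2, 2, 1, 1, 2, 2, 1], 2⟩

/-- The graph maps of `D₄`. -/
def mapsD4 : List (List ℕ × RootMap) :=
  [([0, 1, 3, 2], ⟨[0, 1, 3, 2, 4, 5, 6, 8, 7, 9, 11, 10, 13, 12, 14, 16, 15, 17, 18, 19, 21, 20, 22, 23], [], [], 0⟩),
  ([2, 1, 0, 3], ⟨[0, 1, 2, 6, 7, 10, 3, 4, 8, 9, 5, 11, 12, 18, 14, 15, 19, 20, 13, 16, 17, 21, 22, 23],
    [1, 1, 1, -1, -1, 1, -1, -1, 1, 1, 1, 1, 1, 1, 1, 1, -1, -1, 1, -1, -1, 1, 1, 1], [], 0⟩),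
  ([3, 1, 2, 0], ⟨[0, 1, 6, 3, 8, 11, 2, 7, 4, 9, 10, 5, 18, 13, 14, 19, 16, 21, 12, 15, 20, 17, 22, 23],
    [1, 1, -1, 1, -1, 1, -1, 1, -1, 1, 1, 1, 1, 1, 1, -1, 1, -1, 1, -1, 1, -1, 1, 1], [], 0⟩),
  ([2, 1, 3, 0], ⟨[0, 1, 6, 2, 7, 10, 3, 8, 4, 9, 11, 5, 18, 12, 14, 19, 15, 20, 13, 16, 21, 17, 22, 23],
    [1, 1, -1, 1, -1, 1, -1, 1, -1, 1, 1, 1, 1, 1, 1, -1, 1, -1, 1, -1, 1, -1, 1, 1], [], 0⟩),
  ([3, 1, 0, 2], ⟨[0, 1, 3, 6, 8, 11, 2, 4, 7, 9, 5, 10, 13, 18, 14, 16, 19, 21, 12, 15, 17, 20, 22, 23],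
    [1, 1, 1, -1, -1, 1, -1, -1, 1, 1, 1, 1, 1, 1, 1, 1, -1, -1, 1, -1, -1, 1, 1, 1], [], 0⟩)]

theorem mapsD4_ok : ∀ q ∈ mapsD4, q.2.ok tabD4 = true ∧ nodeOK tabD4 q.2 q.1 [1, 1, 1, 1] = true ∧
    treeOK tabD4 q.1 [1, 1, 1, 1] 1 [(1, 0), (1, 2), (1, 3)] = true ∧
    symOK chevD4 tabD4.l q.1 [1, 1, 1, 1] 0 = true ∧ q.2.modp = 0 ∧ q.2.expo = [] := by decide +kernel

theorem exists_mapD4 {q : List ℕ × RootMap} (hq : q ∈ mapsD4) :
    ∃ N : NodeMap chevD4 tabD4 F, (∀ i, (N.σ i).1 = q.1.getD i.1 0) ∧ ∀ i, N.e i = [1, 1, 1, 1].getD i.1 0 := by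
  obtain ⟨hok, hn, -, -, hp, he⟩ := mapsD4_ok q hq
  exact exists_nodeMap certD4 frameD4.nbr q.2 (by rw [hp, Nat.cast_zero]) hok
    (fun r _ a b => by simp [RootMap.e, he]) hn

/-- The index allowed for the seven types. -/
def Shape (D : ChevalleyDatum) (T : Tab) (F : Type*) [Field F] [Finite F] : Prop :=
  ∃ (C : Tab.Cover) (Φ : Frame D T C) (o : Fin T.l), Frame.TrivTree T o ∧ Frame.Realised D T F o ∧
    (Nat.card (Φ.nodeHom (F := F)).range ≤ 2 ∨ (Nat.card (Φ.nodeHom (F := F)).range = 6 ∧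
      ∃ a b : ↥(stab D F), Φ.nodeHom a * Φ.nodeHom b ≠ Φ.nodeHom b * Φ.nodeHom a))

theorem two_elements_or_three {g0 go : F ≃+* F} (hg : ∀ t, g0 t = go t ^ 3) :
    (∀ t : F, t = 0 ∨ t = 1) ∨ (3 : F) = 0 := by
  have hadd : ∀ a b : F, (a + b) ^ 3 = a ^ 3 + b ^ 3 := fun a b => by
    have e := map_add g0 (go.symm a) (go.symm b)
    simpa [hg] using e
  by_cases hex : ∃ b : F, b ≠ 0 ∧ 1 + b ≠ 0
  · obtain ⟨b, hb0, hb1⟩ := hex
    have h5 : (3 : F) * (b * (1 + b)) = 0 := by linear_combination hadd 1 b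
    exact Or.inr ((mul_eq_zero.1 h5).resolve_right (mul_ne_zero hb0 hb1))
  · push Not at hex
    refine Or.inl fun t => ?_
    rcases eq_or_ne t 0 with rfl | ht
    · exact Or.inl rfl
    · exact Or.inr (by linear_combination hex t ht - hex 1 one_ne_zero)

theorem shapeG2 : Shape chevG2 tabG2 F := by
  haveI : Fintype F := Fintype.ofFinite F
  have haut : ((autLevel tabG2 tabG2.l).all fun x => [List.range tabG2.l, [1, 0]].contains x) = true := by
    decide +kernel
  let o : Fin tabG2.l := ⟨1, by decide +kernel⟩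
  have htree : Frame.TrivTree tabG2 o := ⟨[(1, 0)], by decide +kernel⟩
  have ht : treeOK tabG2 [1, 0] [3, 1] o.1 [(1, 0)] = true := by decide +kernel
  refine ⟨_, frameG2, o, htree, realised_of haut fun s hs => ?_,
    Or.inl ((card_range_le frameG2 haut).trans (by decide +kernel))⟩
  simp only [List.mem_cons, List.not_mem_nil, or_false] at hs
  rcases hs with rfl | rfl
  · exact handled_triv frameG2 htree
  by_cases h3 : (3 : F) = 0
  · haveI : Fact (Nat.Prime 3) := ⟨Nat.prime_three⟩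
    have h3' : ringChar F = 3 := CharP.ringChar_of_prime_eq_zero Nat.prime_three (by exact_mod_cast h3)
    haveI : CharP F 3 := ringChar.of_eq h3'
    exact handled_map frameG2 mapG2 (cast_zero_of (F := F) (p := 3) rfl) (by decide +kernel)
      (additive_of (p := 3) (by decide +kernel)) (e := [3, 1]) (by decide +kernel) ht
      (cc := 3) (by decide +kernel) (Or.inl h3')
  by_cases h2 : ∀ t : F, t = 0 ∨ t = 1
  · exact handled_two frameG2 ht (e' := [2, 1]) (by decide +kernel) (by decide +kernel) h2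
  · exact handled_false ht fun g hg => ((two_elements_or_three (g0 := g ⟨0, by decide +kernel⟩) (go := g o)
      fun t => hg _ t).elim h2 h3)

theorem two_of_square {g0 go : F ≃+* F} (hg : ∀ t, g0 t = go t ^ 2) : (2 : F) = 0 := by
  have e := map_add g0 (go.symm 1) (go.symm 1)
  simp only [hg, map_add, RingEquiv.apply_symm_apply] at e
  linear_combination e

theorem shapeB2 : Shape chevB2 tabB2 F := by
  haveI : Fintype F := Fintype.ofFinite F
  have haut : ((autLevel tabB2 tabB2.l).all fun x => [List.range tabB2.l, [1, 0]].contains x) = true := by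
    decide +kernel
  let o : Fin tabB2.l := ⟨1, by decide +kernel⟩
  have htree : Frame.TrivTree tabB2 o := ⟨[(1, 0)], by decide +kernel⟩
  have ht : treeOK tabB2 [1, 0] [2, 1] o.1 [(1, 0)] = true := by decide +kernel
  refine ⟨_, frameB2, o, htree, realised_of haut fun s hs => ?_,
    Or.inl ((card_range_le frameB2 haut).trans (by decide +kernel))⟩
  simp only [List.mem_cons, List.not_mem_nil, or_false] at hs
  rcases hs with rfl | rfl
  · exact handled_triv frameB2 htree
  by_cases h2 : (2 : F) = 0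
  · haveI : Fact (Nat.Prime 2) := ⟨Nat.prime_two⟩
    have h2' : ringChar F = 2 := CharP.ringChar_of_prime_eq_zero Nat.prime_two (by exact_mod_cast h2)
    haveI : CharP F 2 := ringChar.of_eq h2'
    exact handled_map frameB2 mapB2 (cast_zero_of (F := F) (p := 2) rfl) (by decide +kernel)
      (additive_of (p := 2) (by decide +kernel)) (e := [2, 1]) (by decide +kernel) ht
      (cc := 2) (by decide +kernel) (Or.inl h2')
  · exact handled_false ht fun g hg => h2 (two_of_square (g0 := g ⟨0, by decide +kernel⟩) (go := g o) fun t => hg _ t)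

theorem shapeF4 : Shape chevF4 tabF4 F := by
  haveI : Fintype F := Fintype.ofFinite F
  have haut : ((autLevel tabF4 tabF4.l).all fun x => [List.range tabF4.l, [3, 2, 1, 0]].contains x) = true := by
    decide +kernel
  let o : Fin tabF4.l := ⟨3, by decide +kernel⟩
  have htree : Frame.TrivTree tabF4 o := ⟨[(3, 2), (2, 1), (1, 0)], by decide +kernel⟩
  have ht : treeOK tabF4 [3, 2, 1, 0] [2, 2, 1, 1] o.1 [(3, 2), (2, 1), (1, 0)] = true := by decide +kernel
  refine ⟨_, frameF4, o, htree, realised_of haut fun s hs => ?_,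
    Or.inl ((card_range_le frameF4 haut).trans (by decide +kernel))⟩
  simp only [List.mem_cons, List.not_mem_nil, or_false] at hs
  rcases hs with rfl | rfl
  · exact handled_triv frameF4 htree
  by_cases h2 : (2 : F) = 0
  · haveI : Fact (Nat.Prime 2) := ⟨Nat.prime_two⟩
    have h2' : ringChar F = 2 := CharP.ringChar_of_prime_eq_zero Nat.prime_two (by exact_mod_cast h2)
    haveI : CharP F 2 := ringChar.of_eq h2'
    exact handled_map frameF4 mapF4 (cast_zero_of (F := F) (p := 2) rfl) (by decide +kernel)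
      (additive_of (p := 2) (by decide +kernel)) (e := [2, 2, 1, 1]) (by decide +kernel) ht
      (cc := 2) (by decide +kernel) (Or.inl h2')
  · exact handled_false ht fun g hg => h2 (two_of_square (g0 := g ⟨0, by decide +kernel⟩) (go := g o) fun t => hg _ t)

theorem shapeE6 : Shape chevE6 tabE6 F := by
  haveI : Fintype F := Fintype.ofFinite F
  have haut : ((autLevel tabE6 tabE6.l).all fun x => [List.range tabE6.l, [5, 1, 4, 3, 2, 0]].contains x) = true := by
    decide +kernel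
  let o : Fin tabE6.l := ⟨0, by decide +kernel⟩
  have htree : Frame.TrivTree tabE6 o := ⟨[(0, 2), (2, 3), (3, 1), (3, 4), (4, 5)], by decide +kernel⟩
  refine ⟨_, frameE6, o, htree, realised_of haut fun s hs => ?_,
    Or.inl ((card_range_le frameE6 haut).trans (by decide +kernel))⟩
  simp only [List.mem_cons, List.not_mem_nil, or_false] at hs
  rcases hs with rfl | rfl
  · exact handled_triv frameE6 htree
  exact handled_map frameE6 mapE6 (by simp [mapE6]) (by decide +kernel) (fun r _ a b => by simp [RootMap.e, mapE6])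
    (e := [1, 1, 1, 1, 1, 1]) (L := [(0, 2), (2, 3), (3, 1), (3, 4), (4, 5)]) (by decide +kernel) (by decide +kernel)
    (cc := 0) (by decide +kernel) (Or.inr ⟨rfl, by decide +kernel⟩)

theorem shapeE7 : Shape chevE7 tabE7 F := by
  haveI : Fintype F := Fintype.ofFinite F
  have haut : ((autLevel tabE7 tabE7.l).all fun x => [List.range tabE7.l].contains x) = true := by
    decide +kernel
  let o : Fin tabE7.l := ⟨0, by decide +kernel⟩
  have htree : Frame.TrivTree tabE7 o := ⟨[(0, 2), (2, 3), (3, 1), (3, 4), (4, 5), (5, 6)], by decide +kernel⟩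
  refine ⟨_, frameE7, o, htree, realised_of haut fun s hs => ?_,
    Or.inl ((card_range_le frameE7 haut).trans (by decide +kernel))⟩
  rw [List.mem_singleton] at hs
  subst hs
  exact handled_triv frameE7 htree

theorem shapeE8 : Shape chevE8 tabE8 F := by
  haveI : Fintype F := Fintype.ofFinite F
  have haut : ((autLevel tabE8 tabE8.l).all fun x => [List.range tabE8.l].contains x) = true := by
    decide +kernel
  let o : Fin tabE8.l := ⟨0, by decide +kernel⟩
  have htree : Frame.TrivTree tabE8 o := ⟨[(0, 2), (2, 3), (3, 1), (3, 4), (4, 5), (5, 6), (6, 7)], by decide +kernel⟩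
  refine ⟨_, frameE8, o, htree, realised_of haut fun s hs => ?_,
    Or.inl ((card_range_le frameE8 haut).trans (by decide +kernel))⟩
  rw [List.mem_singleton] at hs
  subst hs
  exact handled_triv frameE8 htree

theorem shapeD4 : Shape chevD4 tabD4 F := by
  haveI : Fintype F := Fintype.ofFinite F
  let Ls := List.range tabD4.l :: mapsD4.map Prod.fst
  have haut : ((autLevel tabD4 tabD4.l).all fun x => Ls.contains x) = true := by decide +kernel
  let o : Fin tabD4.l := ⟨1, by decide +kernel⟩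
  have htree : Frame.TrivTree tabD4 o := ⟨[(1, 0), (1, 2), (1, 3)], by decide +kernel⟩
  have hnode : ∀ s ∈ Ls, ∃ α : ↥(stab chevD4 F), (List.ofFn fun i => (frameD4.node α i).1) = s := by
    intro s hs
    rcases List.mem_cons.1 hs with rfl | hs
    · refine ⟨⟨(NodeMap.triv chevD4 tabD4 F).φ, (NodeMap.triv chevD4 tabD4 F).mem⟩, ?_⟩
      rw [node_of_map frameD4 (NodeMap.triv chevD4 tabD4 F)]
      exact List.ext_getElem (by simp) (by simp [NodeMap.triv])
    · obtain ⟨q, hq, rfl⟩ := List.mem_map.1 hs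
      obtain ⟨N, hN, -⟩ := exists_mapD4 (F := F) hq
      refine ⟨⟨N.φ, N.mem⟩, ?_⟩
      rw [node_of_map frameD4 N]
      have hlen : ∀ q ∈ mapsD4, q.1.length = tabD4.l := by decide +kernel
      refine List.ext_getElem (by simp [hlen q hq]) fun i h1 h2 => ?_
      simp [hN, List.getD_eq_getElem?_getD, List.getElem?_eq_getElem h2]
  refine ⟨_, frameD4, o, htree, realised_of haut fun s hs => ?_, Or.inr ⟨le_antisymm ?_ ?_, ?_⟩⟩
  · rcases List.mem_cons.1 hs with rfl | hs
    · exact handled_triv frameD4 htree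
    obtain ⟨q, hq, rfl⟩ := List.mem_map.1 hs
    obtain ⟨hok, hn, ht, hsym, hp, he⟩ := mapsD4_ok q hq
    exact handled_map frameD4 q.2 (by rw [hp, Nat.cast_zero]) hok (fun r _ a b => by simp [RootMap.e, he]) hn
      (o := o) ht hsym (Or.inr ⟨rfl, by decide +kernel⟩)
  · exact (card_range_le frameD4 haut).trans (by decide +kernel)
  · choose α hα using hnode
    let k : ↥Ls.toFinset → ↥(frameD4.nodeHom (F := F)).range := fun s =>
      ⟨frameD4.nodeHom (α s.1 (List.mem_toFinset.1 s.2)), ⟨_, rfl⟩⟩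
    have hk : Function.Injective k := fun a b e => Subtype.ext (by
      rw [← hα a.1 (List.mem_toFinset.1 a.2), ← hα b.1 (List.mem_toFinset.1 b.2)]
      refine congrArg List.ofFn (funext fun i => ?_)
      exact congrArg Fin.val (DFunLike.congr_fun (congrArg Subtype.val e) i))
    refine le_trans ?_ (Nat.card_le_card_of_injective k hk)
    rw [Nat.card_eq_finsetCard]
    decide +kernel
  · obtain ⟨a, ha⟩ := hnode [0, 1, 3, 2] (by decide +kernel)
    obtain ⟨b, hb⟩ := hnode [2, 1, 0, 3] (by decide +kernel)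
    refine ⟨a, b, fun e => ?_⟩
    have key : ∀ (x : ↥(stab chevD4 F)) (s : List ℕ), (List.ofFn fun i => (frameD4.node x i).1) = s →
        ∀ i, (frameD4.node x i).1 = s.getD i.1 0 := fun x s hx i => by
      subst hx; simp [List.getD_eq_getElem?_getD, List.getElem?_ofFn]
    have h0 := congrArg Fin.val (DFunLike.congr_fun e ⟨0, by decide +kernel⟩)
    simp only [Equiv.Perm.mul_apply, Frame.nodeHom_apply, key a _ ha, key b _ hb] at h0
    revert h0
    decide +kernel

theorem exists_shape (hD : D ∈ [chevG2, chevB2, chevD4, chevF4, chevE6, chevE7, chevE8]) : ∃ T, Shape D T F := by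
  simp only [List.mem_cons, List.not_mem_nil, or_false] at hD
  rcases hD with rfl | rfl | rfl | rfl | rfl | rfl | rfl
  · exact ⟨_, shapeG2⟩
  · exact ⟨_, shapeB2⟩
  · exact ⟨_, shapeD4⟩
  · exact ⟨_, shapeF4⟩
  · exact ⟨_, shapeE6⟩
  · exact ⟨_, shapeE7⟩
  · exact ⟨_, shapeE8⟩

end CfsgLib.ChevAut
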