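/-
The outer automorphism group of `D₄(q)`.
-/
import Mathlib
import Cfsg.Agent.Lib.ChevAut.Seven
import Cfsg.Agent.Lib.OrthAut.InndiagQuot

set_option autoImplicit false
set_option linter.unusedSectionVars false

open Cfsg Cfsg.Lie CfsgLib.Chev

namespace CfsgLib.ChevAut

namespace D4

/-- The double transposition moving the central node to `k`. -/
def klein : Fin 4 → Equiv.Perm (Fin 4)
  | 0 => Equiv.swap 1 0 * Equiv.swap 2 3
  | 1 => 1
  | 2 => Equiv.swap 1 2 * Equiv.swap 0 3
  | 3 => Equiv.swap 1 3 * Equiv.swap 0 2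

/-- The translation given by three signs. -/
def trans (s : Fin 4 → ℤˣ) : Equiv.Perm (Fin 4) :=
  (if s 0 = -1 then klein 0 else 1) * (if s 2 = -1 then klein 2 else 1) * (if s 3 = -1 then klein 3 else 1)

theorem trans_mul : ∀ a b : Fin 4 → ℤˣ, trans (a * b) = trans a * trans b := by decide +kernel

theorem trans_conj : ∀ σ : Equiv.Perm (Fin 4), σ 1 = 1 → ∀ s : Fin 4 → ℤˣ,
    σ * trans s = trans (fun j => s (σ.symm j)) * σ := by decide +kernel

theorem trans_diag : ∀ s : Fin 4 → ℤˣ, s 0 = s 2 → s 2 = s 3 → trans s = 1 := by decide +kernel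

theorem trans_cover : ∀ π : Equiv.Perm (Fin 4), ∃ s : Fin 4 → ℤˣ, ((trans s)⁻¹ * π) 1 = 1 := by decide +kernel

theorem perm_fix_one : ∀ σ : Equiv.Perm (Fin 4),
    (∀ i j : Fin 4, tabD4.car i.1 (tabD4.simple j.1) = 0 ↔ tabD4.car (σ i).1 (tabD4.simple (σ j).1) = 0) →
      σ 1 = 1 := by decide +kernel

theorem perm_listed : ∀ σ : Equiv.Perm (Fin 4), σ 1 = 1 →
    (List.ofFn fun i => (σ i).1) ∈ List.range 4 :: mapsD4.map Prod.fst := by decide +kernel

theorem car_centre : ∀ j : Fin 4, j ≠ 1 → tabD4.car 1 (tabD4.simple j.1) = -1 := by decide +kernel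

theorem card_fix : Fintype.card {σ : Equiv.Perm (Fin 4) // σ 1 = 1} = 6 := by decide +kernel

theorem car_table : ∀ i j : Fin 4, tabD4.car i.1 (tabD4.simple j.1) =
    if i = j then 2 else if i = 1 ∨ j = 1 then -1 else 0 := by decide +kernel

variable {F : Type*} [Field F] [Fintype F]

/-- The node map of a permutation fixing the central node. -/
theorem exists_node {σ : Equiv.Perm (Fin 4)} (hσ : σ 1 = 1) :
    ∃ N : NodeMap chevD4 tabD4 F, (∀ i : Fin 4, N.σ i = σ i) ∧ ∀ i : Fin 4, N.e i = 1 := by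
  have hget : ∀ i : Fin 4, (List.ofFn fun i => (σ i).1).getD i.1 0 = (σ i).1 := fun i => by
    fin_cases i <;> rfl
  rcases List.mem_cons.1 (perm_listed σ hσ) with h | h
  · refine ⟨NodeMap.triv chevD4 tabD4 F, fun i => Fin.ext ?_, fun i => rfl⟩
    rw [← hget i, h, List.getD_eq_getElem?_getD, List.getElem?_range i.2]
    rfl
  · obtain ⟨q, hq, e⟩ := List.mem_map.1 h
    obtain ⟨N, hN, hNe⟩ := exists_mapD4 (F := F) hq
    refine ⟨N, fun i => Fin.ext ?_, fun i => ?_⟩
    · rw [hN i, e]
      exact hget i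
    · rw [hNe i]
      revert i
      decide

theorem sigma_fix {σ : Fin tabD4.l → Fin tabD4.l} (hσ : Function.Bijective σ)
    (hadj : ∀ i j : Fin tabD4.l, tabD4.car i (tabD4.simple j) = 0 ↔ tabD4.car (σ i) (tabD4.simple (σ j)) = 0) :
    σ (1 : Fin 4) = (1 : Fin 4) :=
  perm_fix_one (Equiv.ofBijective (α := Fin 4) (β := Fin 4) σ hσ) hadj

theorem fields_eq {σ : Fin tabD4.l → Fin tabD4.l} {g : Fin tabD4.l → (F ≃+* F)} (hσ : Function.Bijective σ)
    (hadj : ∀ i j : Fin tabD4.l, tabD4.car i (tabD4.simple j) = 0 ↔ tabD4.car (σ i) (tabD4.simple (σ j)) = 0)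
    (hg : ∀ (i j : Fin tabD4.l) (t : F), t ≠ 0 →
      g j (t ^ tabD4.car i (tabD4.simple j)) = g i t ^ tabD4.car (σ i) (tabD4.simple (σ j)))
    (i : Fin 4) : g i = g (1 : Fin 4) := by
  by_cases h : i = 1
  · rw [h]
  have h1 := sigma_fix hσ hadj
  have h2 : σ i ≠ (1 : Fin 4) := fun e => h (hσ.1 (e.trans h1.symm))
  refine RingEquiv.ext fun t => ?_
  by_cases ht : t = 0
  · rw [ht, map_zero, map_zero]
  have h3 := hg (1 : Fin 4) i t ht
  rw [h1] at h3
  have c1 : tabD4.car ((1 : Fin 4) : ℕ) (tabD4.simple i.1) = -1 := car_centre i h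
  have c2 : tabD4.car ((1 : Fin 4) : ℕ) (tabD4.simple (σ i).1) = -1 := car_centre _ h2
  erw [c1, c2] at h3
  rw [zpow_neg_one, zpow_neg_one, map_inv₀] at h3
  exact inv_injective h3

/-- The order of the stabiliser. -/
theorem card_stab_d4 :
    Nat.card (stab chevD4 F) = 6 * Nat.card (F ≃+* F) * (Fintype.card F - 1) ^ 4 := by
  classical
  choose γ hγσ hγe using fun σ : {σ : Equiv.Perm (Fin 4) // σ 1 = 1} => exists_node (F := F) σ.2
  have := card_stab certD4 frameD4.opp frameD4.pairs frameD4.coefB frameD4.step γ (1 : Fin 4)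
    (fun k => hγe k 1) (fun a b e => Subtype.ext (Equiv.ext fun i => by
      rw [← hγσ a i, ← hγσ b i]
      exact congrFun e i))
    fun σ g hσ hadj hg =>
      ⟨⟨Equiv.ofBijective (α := Fin 4) (β := Fin 4) σ hσ, sigma_fix hσ hadj⟩, funext fun i => hγσ _ i,
        fun i t => by rw [hγe _ i, pow_one, fields_eq hσ hadj hg i]⟩
  rw [card_fix] at this
  exact this

theorem card_out {p f : ℕ} [Fact p.Prime] (hF : Fintype.card F = p ^ f) :
    Nat.card (Cfsg.Out ↥(chevD4.group F)) = 6 * Nat.gcd 2 (Fintype.card F - 1) ^ 2 * f := by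
  haveI := CfsgLib.AutPSL.charP_of_card (F := F) hF
  have h1 := card_out_mul certD4 frameD4.opp (F := F) (p := p)
  have h2 := card_stab_d4 (F := F)
  rw [card_aut hF] at h2
  exact out_eq h1 h2 card_diagonalD4 Nat.card_pos

/-! ### The invariants of a stabilising automorphism -/

/-- The stabiliser. -/
abbrev StD4 (F : Type*) [Field F] : Type _ := ↥(stab chevD4 F)

/-- The permutation of the nodes. -/
noncomputable def nodes : (StD4 F) →* Equiv.Perm (Fin 4) := frameD4.nodeHom

/-- The field parts. -/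
noncomputable def gP (α : (StD4 F)) : Fin 4 → (F ≃+* F) := (frameD4.exists_Params α.2).choose_spec.choose

/-- The scalar parts. -/
noncomputable def cP (α : (StD4 F)) : Fin 4 → Fˣ := (frameD4.exists_Params α.2).choose_spec.choose_spec.choose

theorem par (α : (StD4 F)) : Frame.Params (T := tabD4) α.1 (frameD4.node α) (gP α) (cP α) := by
  have h : Frame.Params (T := tabD4) α.1 (frameD4.exists_Params α.2).choose (gP α) (cP α) :=
    (frameD4.exists_Params α.2).choose_spec.choose_spec.choose_spec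
  rwa [← frameD4.node_params h] at h

theorem nodes_apply (α : (StD4 F)) (i : Fin 4) : nodes α i = frameD4.node α i := rfl

theorem nodes_one (α : (StD4 F)) : nodes α 1 = 1 := sigma_fix (par α).1 (par α).2.2.2.1

/-- The field part. -/
noncomputable def gal (α : (StD4 F)) : F ≃+* F := gP α 1

theorem gP_eq (α : (StD4 F)) (i : Fin 4) : gP α i = gal α := fields_eq (par α).1 (par α).2.2.2.1 (par α).2.2.2.2 i

theorem pos_spec (α : (StD4 F)) (i : Fin 4) (t : F) (x : ↥(chevD4.group F))
    (hx : (x : GL chevD4.Idx F) = X chevD4 (tabD4.simple i.1) t) :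
    (α.1 x : GL chevD4.Idx F) = X chevD4 (tabD4.simple (nodes α i).1) (cP α i * gal α t) := by
  rw [← gP_eq α i]
  exact (par α).2.1 i t x hx

/-- The images of the simple root elements determine the invariants. -/
theorem eval {α : (StD4 F)} {σ : Fin 4 → Fin 4} {a : Fin 4 → Fˣ} {τ : F ≃+* F}
    (h : ∀ (i : Fin 4) (t : F) (x : ↥(chevD4.group F)), (x : GL chevD4.Idx F) = X chevD4 (tabD4.simple i.1) t →
      (α.1 x : GL chevD4.Idx F) = X chevD4 (tabD4.simple (σ i).1) (a i * τ t)) :
    (∀ i, nodes α i = σ i) ∧ cP α = a ∧ gal α = τ := by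
  have hlt : ∀ i : Fin 4, tabD4.simple i.1 < tabD4.n := fun i => certD4.simple_lt i.2
  have key : ∀ (i : Fin 4) (t : F), X chevD4 (tabD4.simple (nodes α i).1) (cP α i * gal α t) =
      X chevD4 (tabD4.simple (σ i).1) (a i * τ t) := fun i t =>
    (pos_spec α i t (xE certD4 (hlt i) t) rfl).symm.trans (h i t _ rfl)
  have hn : ∀ i, nodes α i = σ i := fun i => by
    refine frameD4.root_inj (F := F) (i := nodes α i) (j := σ i) ?_ (key i 1)
    rw [map_one, mul_one]
    exact (cP α i).ne_zero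
  have hv : ∀ (i : Fin 4) (t : F), (cP α i : F) * gal α t = a i * τ t := fun i t => by
    have h1 := key i t
    rw [hn i] at h1
    exact certD4.X_inj (hlt _) h1
  have hc : cP α = a := funext fun i => Units.ext (by simpa using hv i 1)
  refine ⟨hn, hc, RingEquiv.ext fun t => mul_left_cancel₀ (cP α 1).ne_zero ?_⟩
  rw [hv, hc]

theorem mul_spec (α β : (StD4 F)) :
    cP (α * β) = (fun i => cP α (nodes β i) * Units.map (gal α).toMonoidHom (cP β i)) ∧
      gal (α * β) = gal α * gal β := by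
  refine (eval (α := α * β) (σ := fun i => nodes α (nodes β i)) fun i t x hx => ?_).2
  rw [Subgroup.coe_mul, MulAut.mul_apply, pos_spec α (nodes β i) _ _ (pos_spec β i t x hx), map_mul, Units.val_mul,
    mul_assoc]
  rfl

/-- The field part as a homomorphism. -/
noncomputable def galHom : (StD4 F) →* (F ≃+* F) := MonoidHom.mk' gal fun a b => (mul_spec a b).2

local notation "sq" => CfsgLib.OrthAut.sqClass F

theorem sq_map (τ : F ≃+* F) (x : Fˣ) : sq (Units.map τ.toMonoidHom x) = sq x := by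
  have h : IsSquare ((Units.map τ.toMonoidHom x : Fˣ) : F) ↔ IsSquare (x : F) := by
    refine ⟨fun h => ?_, fun h => h.map τ⟩
    simpa using h.map τ.symm
  rw [← CfsgLib.OrthAut.sqClass_eq_one_iff, ← CfsgLib.OrthAut.sqClass_eq_one_iff] at h
  revert h
  generalize sq (Units.map τ.toMonoidHom x) = u
  generalize sq x = v
  revert u v
  decide

/-- The square classes of the scalar parts, by target node. -/
noncomputable def signs (α : (StD4 F)) (j : Fin 4) : ℤˣ := sq (cP α ((nodes α).symm j))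

theorem signs_mul (α β : (StD4 F)) : signs (α * β) = signs α * fun j => signs β ((nodes α).symm j) := by
  funext j
  simp only [signs, Pi.mul_apply, (mul_spec α β).1, map_mul, sq_map]
  rw [show (nodes α * nodes β).symm j = (nodes β).symm ((nodes α).symm j) from rfl, Equiv.apply_symm_apply]

/-- The action on the four points. -/
noncomputable def pts : (StD4 F) →* Equiv.Perm (Fin 4) :=
  MonoidHom.mk' (fun α => trans (signs α) * nodes α) fun α β => by
    rw [signs_mul, trans_mul, map_mul, mul_assoc, mul_assoc, ← mul_assoc (nodes α),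
      trans_conj (nodes α) (nodes_one α) (signs β), mul_assoc]

/-- Everything at once. -/
noncomputable def inv : (StD4 F) →* Equiv.Perm (Fin 4) × (F ≃+* F) := pts.prod galHom

theorem ker_toOut_le_inv : (Frame.toOut (D := chevD4) (F := F)).ker ≤ (inv (F := F)).ker := by
  intro α hα
  rw [MonoidHom.mem_ker] at hα ⊢
  obtain ⟨g, hg⟩ := (QuotientGroup.eq_one_iff _).1 hα
  have hgs : MulAut.conj g ∈ stab chevD4 F := by rw [hg]; exact α.2
  have hgT := mem_tG_of_conj_mem_stab certD4 frameD4.opp hgs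
  obtain ⟨c, hc, ec⟩ := certD4.mem_diagonalSubgroup_iff.1 (Subgroup.mem_subgroupOf.1 hgT)
  let a : Fin 4 → Fˣ := fun i =>
    Units.mk0 (charOf tabD4 c (tabD4.simple i.1)) (Cert.charOf_ne_zero hc _)
  obtain ⟨hn, hca, hgal⟩ := eval (α := α) (σ := id) (a := a) (τ := RingEquiv.refl F) fun i t x hx => by
    rw [show α.1 = MulAut.conj g from hg.symm, MulAut.conj_apply, Subgroup.coe_mul, Subgroup.coe_mul,
      Subgroup.coe_inv, hx, mul_inv_eq_iff_eq_mul]
    refine Units.ext ?_
    rw [Units.val_mul, Units.val_mul, certD4.coe_X, certD4.coe_X, ec,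
      certD4.torus_mul_x (certD4.isChar_charOf hc) (certD4.simple_lt i.2)]
    rfl
  have hn1 : nodes α = 1 := Equiv.ext hn
  refine Prod.ext ?_ hgal
  show trans (signs α) * nodes α = 1
  rw [hn1, mul_one]
  let v : Fˣ := Units.mk0 (c 1) (hc 1 (by decide +kernel))
  have ha : ∀ i : Fin 4, i ≠ 1 → signs α i = sq v := fun i hi => by
    have hi0 : c i.1 ≠ 0 := hc i.1 i.2
    have e : a i = Units.mk0 (c i.1) hi0 * Units.mk0 (c i.1) hi0 * v⁻¹ := Units.ext (by
      show charOf tabD4 c (tabD4.simple i.1) = c i.1 * c i.1 * ((v⁻¹ : Fˣ) : F)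
      rw [charOf, show tabD4.l = 4 from rfl, Units.val_inv_eq_inv_val]
      simp only [Finset.prod_range_succ, Finset.prod_range_zero, one_mul]
      have h0 := car_table 0 i
      have h1 := car_table 1 i
      have h2 := car_table 2 i
      have h3 := car_table 3 i
      simp only [Fin.val_zero, Fin.val_one, Fin.val_two, show ((3 : Fin 4) : ℕ) = 3 from rfl] at h0 h1 h2 h3
      rw [h0, h1, h2, h3]
      fin_cases i <;> first | exact absurd rfl hi | (simp [v, zpow_two]; first | exact Or.inl (pow_two _) | ring))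
    show sq (cP α ((nodes α).symm i)) = _
    rw [hn1, hca]
    show sq (a i) = _
    rw [e, map_mul, map_mul, Int.units_mul_self, one_mul, map_inv, Int.units_inv_eq_self]
  exact trans_diag _ ((ha 0 (by decide)).trans (ha 2 (by decide)).symm)
    ((ha 2 (by decide)).trans (ha 3 (by decide)).symm)

theorem spec_fld (τ : F ≃+* F) :
    (∀ i, nodes (F := F) ⟨frameD4.fld τ, (frameD4.fld_spec τ).1⟩ i = i) ∧
      cP (F := F) ⟨frameD4.fld τ, (frameD4.fld_spec τ).1⟩ = 1 ∧
      gal (F := F) ⟨frameD4.fld τ, (frameD4.fld_spec τ).1⟩ = τ :=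
  eval (σ := id) fun i t x hx => by
    rw [Pi.one_apply, Units.val_one, one_mul]
    exact (frameD4.fld_spec τ).2.1 _ (certD4.simple_lt i.2) t x hx

theorem spec_diag (d : Fin 4 → Fˣ) :
    (∀ i, nodes (F := F) ⟨frameD4.diag d, (frameD4.diag_spec d).1⟩ i = i) ∧
      cP (F := F) ⟨frameD4.diag d, (frameD4.diag_spec d).1⟩ = d ∧
      gal (F := F) ⟨frameD4.diag d, (frameD4.diag_spec d).1⟩ = RingEquiv.refl F :=
  eval (σ := id) fun i t x hx => (frameD4.diag_spec d).2.1 i t x hx

theorem spec_node {σ : Equiv.Perm (Fin 4)} (hσ : σ 1 = 1) :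
    ∃ α : (StD4 F), nodes α = σ ∧ cP α = 1 ∧ gal α = 1 := by
  obtain ⟨N, hN, hNe⟩ := exists_node (F := F) hσ
  obtain ⟨h1, h2, h3⟩ := eval (α := ⟨N.φ, N.mem⟩) (σ := fun i => σ i) (a := 1) (τ := 1) fun i t x hx => by
    rw [Pi.one_apply, Units.val_one, one_mul]
    show (N.φ x : GL chevD4.Idx F) = _
    rw [N.pos i t x hx, hNe i, pow_one, ← hN i]
    rfl
  exact ⟨_, Equiv.ext h1, h2, h3⟩

theorem signs_of_one {α : (StD4 F)} (h : cP α = 1) : trans (signs α) = 1 := by
  refine trans_diag _ ?_ ?_ <;> simp [signs, h]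

/-- A lift along a surjection is bijective when the orders agree. -/
theorem equiv_lift {A B : Type*} [Group A] [Group B] [Finite B] (π : (StD4 F) →* A) (φ : (StD4 F) →* B)
    (hπ : Function.Surjective π) (hk : π.ker ≤ φ.ker) (hφ : Function.Surjective φ)
    (hc : Nat.card A = Nat.card B) : Nonempty (A ≃* B) := by
  haveI : Finite A := Nat.finite_of_card_ne_zero (by rw [hc]; exact Nat.card_pos.ne')
  let L := MonoidHom.liftOfSurjective π hπ ⟨φ, hk⟩
  have hL : Function.Surjective L := fun b => by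
    obtain ⟨x, rfl⟩ := hφ b
    exact ⟨π x, MonoidHom.liftOfRightInverse_comp_apply _ _ _ _ x⟩
  exact ⟨MulEquiv.ofBijective L ((Nat.bijective_iff_surjective_and_card _).2 ⟨hL, hc⟩)⟩

theorem out_odd {p f : ℕ} [Fact p.Prime] (hF : Fintype.card F = p ^ f) (hp : p ≠ 2) :
    Nonempty (Cfsg.Out ↥(chevD4.group F) ≃* Equiv.Perm (Fin 4) × (F ≃+* F)) := by
  haveI : Finite (F ≃+* F) := Finite.of_injective (fun σ => ⇑σ) DFunLike.coe_injective
  have hodd : Odd (Fintype.card F) := hF ▸ ((Fact.out : p.Prime).odd_of_ne_two hp).pow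
  refine equiv_lift (Frame.toOut (D := chevD4)) inv frameD4.toOut_surjective ker_toOut_le_inv ?_ ?_
  · obtain ⟨ν, hν⟩ := FiniteField.exists_nonsquare (F := F) fun hc =>
      Nat.not_even_iff_odd.2 hodd (Nat.even_iff.2 (FiniteField.even_card_of_char_two hc))
    have hν0 : ν ≠ 0 := fun e => hν (e ▸ IsSquare.zero)
    have hνs : sq (Units.mk0 ν hν0) = -1 :=
      (Int.units_eq_one_or _).resolve_left fun e => hν ((CfsgLib.OrthAut.sqClass_eq_one_iff _).1 e)
    rintro ⟨π, τ⟩
    obtain ⟨s, hs⟩ := trans_cover π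
    obtain ⟨n, hn, hnc, hng⟩ := spec_node (F := F) hs
    let d : Fin 4 → Fˣ := fun i => if s i = -1 then Units.mk0 ν hν0 else 1
    obtain ⟨hd1, hd2, hd3⟩ := spec_diag (F := F) d
    obtain ⟨hf1, hf2, hf3⟩ := spec_fld (F := F) τ
    refine ⟨⟨frameD4.diag d, (frameD4.diag_spec d).1⟩ * n * ⟨frameD4.fld τ, (frameD4.fld_spec τ).1⟩, ?_⟩
    have e1 : signs (F := F) ⟨frameD4.diag d, (frameD4.diag_spec d).1⟩ = s := funext fun i => by
      rw [signs, show nodes (F := F) ⟨frameD4.diag d, (frameD4.diag_spec d).1⟩ = 1 from Equiv.ext hd1, hd2]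
      show sq (d i) = s i
      rcases Int.units_eq_one_or (s i) with e | e <;> simp [d, e, hνs]
    simp only [map_mul]
    refine Prod.ext ?_ ?_
    · show (trans (signs _) * nodes _) * (trans (signs _) * nodes _) * (trans (signs _) * nodes _) = π
      rw [e1, signs_of_one hnc, signs_of_one hf2, (Equiv.ext hd1 : nodes _ = 1), (Equiv.ext hf1 : nodes _ = 1), hn]
      simp
    · show gal _ * gal _ * gal _ = τ
      rw [hd3, hng, hf3]
      rfl
  · rw [card_out hF, Nat.card_prod, card_aut hF, Nat.card_eq_fintype_card, Fintype.card_perm, Fintype.card_fin,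
      Nat.gcd_eq_left (show 2 ∣ Fintype.card F - 1 by have := Nat.odd_iff.1 hodd; omega)]
    rfl

theorem out_two {f : ℕ} (hF : Fintype.card F = 2 ^ f) :
    Nonempty (Cfsg.Out ↥(chevD4.group F) ≃* Equiv.Perm (Fin 3) × (F ≃+* F)) := by
  haveI : Finite (F ≃+* F) := Finite.of_injective (fun σ => ⇑σ) DFunLike.coe_injective
  have hfix : ∀ (α : (StD4 F)) (i : Fin 4), nodes α i ≠ 1 ↔ i ≠ 1 := fun α i => not_congr
    ⟨fun e => (nodes α).injective (e.trans (nodes_one α).symm), fun e => by rw [e, nodes_one]⟩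
  let r : (StD4 F) →* Equiv.Perm {i : Fin 4 // i ≠ 1} :=
    MonoidHom.mk' (fun α => (nodes α).subtypePerm (hfix α)) fun α β => Equiv.ext fun i => Subtype.ext (by
      show nodes (α * β) i.1 = nodes α (nodes β i.1)
      rw [map_mul]; rfl)
  let φ : (StD4 F) →* Equiv.Perm (Fin 3) × (F ≃+* F) :=
    ((Equiv.permCongrHom (finSuccAboveEquiv (1 : Fin 4)).symm).toMonoidHom.comp r).prod galHom
  have hev : Even (Fintype.card F) := by
    rw [hF, Nat.even_pow]
    exact ⟨even_two, fun e => by
      have := Fintype.one_lt_card (α := F)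
      rw [hF, e] at this
      omega⟩
  refine equiv_lift (Frame.toOut (D := chevD4)) φ frameD4.toOut_surjective (fun α hα => ?_) ?_ ?_
  · have h1 := ker_toOut_le_inv hα
    rw [MonoidHom.mem_ker] at h1 ⊢
    have h2 : r α = 1 := by
      have hn := frameD4.ker_toOut_le hα
      rw [MonoidHom.mem_ker] at hn
      exact Equiv.ext fun i => Subtype.ext (DFunLike.congr_fun hn (i : Fin 4))
    refine Prod.ext ?_ (congrArg Prod.snd h1 :)
    show Equiv.permCongrHom _ (r α) = 1
    rw [h2, map_one]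
  · rintro ⟨π, τ⟩
    let π' : Equiv.Perm {i : Fin 4 // i ≠ 1} := (Equiv.permCongrHom (finSuccAboveEquiv (1 : Fin 4)).symm).symm π
    obtain ⟨n, hn, hnc, hng⟩ := spec_node (F := F) (σ := Equiv.Perm.ofSubtype π')
      (Equiv.Perm.ofSubtype_apply_of_not_mem π' (by simp))
    obtain ⟨hf1, hf2, hf3⟩ := spec_fld (F := F) τ
    refine ⟨n * ⟨frameD4.fld τ, (frameD4.fld_spec τ).1⟩, Prod.ext ?_ ?_⟩
    · show Equiv.permCongrHom _ (r _) = π
      rw [show r (n * ⟨frameD4.fld τ, (frameD4.fld_spec τ).1⟩) = π' from Equiv.ext fun i => Subtype.ext (by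
        simp [r, map_mul, hn, hf1, Equiv.Perm.ofSubtype_apply_coe])]
      exact MulEquiv.apply_symm_apply _ π
    · show galHom _ = τ
      rw [map_mul]
      show gal _ * gal _ = τ
      rw [hng, hf3, one_mul]
  · rw [card_out hF, Nat.card_prod, card_aut hF, Nat.card_eq_fintype_card, Fintype.card_perm, Fintype.card_fin,
      Nat.Coprime.gcd_eq_one (Nat.coprime_two_left.2 (by
        rcases hev with ⟨k, hk⟩
        have := Fintype.one_lt_card (α := F)
        exact Nat.odd_iff.2 (by omega)))]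
    rfl

theorem card_mulAut {p f : ℕ} [Fact p.Prime] (hF : Fintype.card F = p ^ f) :
    Nat.card (MulAut ↥(chevD4.group F)) =
      6 * Nat.gcd 2 (Fintype.card F - 1) ^ 2 * f * Nat.card ↥(chevD4.group F) := by
  haveI := finite_group (D := chevD4) (F := F)
  have hconj : Function.Injective (MulAut.conj : ↥(chevD4.group F) →* MulAut ↥(chevD4.group F)) := by
    refine (injective_iff_map_eq_one _).2 fun a ha => ?_
    have hc : a ∈ Subgroup.center ↥(chevD4.group F) := Subgroup.mem_center_iff.2 fun y => by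
      have h2 := DFunLike.congr_fun ha y
      simp only [MulAut.conj_apply, MulAut.one_apply] at h2
      exact (mul_inv_eq_iff_eq_mul.1 h2).symm
    rwa [certD4.center_group, Subgroup.mem_bot] at hc
  rw [← card_out hF, Cfsg.Out, Nat.card_congr (MonoidHom.ofInjective hconj).toEquiv]
  exact Subgroup.card_eq_card_quotient_mul_card_subgroup _

end D4

end CfsgLib.ChevAut
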