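/-
The outer automorphism group of `PΩ⁺(8, q)` by transport from `D₄(q)`.
-/
import Cfsg.Agent.Lib.ChevAut.D4Out
import Cfsg.Agent.Lib.Extraspecial.OuterAut
import Cfsg.Agent.Lib.AutPSL.Out
import Cfsg.Agent.S1082

set_option autoImplicit false

open Cfsg Cfsg.Lie

namespace CfsgLib.ChevAut.D4

variable {F : Type*} [Field F] [Fintype F]

theorem card_mulAut_orth {p f : ℕ} [Fact p.Prime] (hF : Fintype.card F = p ^ f) :
    Nat.card (MulAut (Cfsg.POmega F (Cfsg.quadFormPlus 4 F))) =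
      6 * Nat.gcd 2 (Fintype.card F - 1) ^ 2 * f * Nat.card (Cfsg.POmega F (Cfsg.quadFormPlus 4 F)) := by
  obtain ⟨e⟩ := Cfsg.Agent.S1082.result (F := F)
  rw [← Nat.card_congr (MulAut.congr e).toEquiv, ← Nat.card_congr e.toEquiv]
  exact card_mulAut hF

theorem out_orth_odd {p f : ℕ} [Fact p.Prime] (hf : 1 ≤ f) (hF : Fintype.card F = p ^ f) (hp : p ≠ 2) :
    Nonempty (Cfsg.Out (Cfsg.POmega F (Cfsg.quadFormPlus 4 F)) ≃* Equiv.Perm (Fin 4) × Multiplicative (ZMod f)) := by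
  obtain ⟨e⟩ := Cfsg.Agent.S1082.result (F := F)
  obtain ⟨eA⟩ := CfsgLib.AutPSL.exists_ringAut_equiv hF hf
  obtain ⟨eO⟩ := out_odd hF hp
  exact ⟨((CfsgLib.Extraspecial.outCongr e).symm.trans eO).trans ((MulEquiv.refl _).prodCongr eA)⟩

theorem out_orth_two {f : ℕ} (hf : 1 ≤ f) (hF : Fintype.card F = 2 ^ f) :
    Nonempty (Cfsg.Out (Cfsg.POmega F (Cfsg.quadFormPlus 4 F)) ≃* Equiv.Perm (Fin 3) × Multiplicative (ZMod f)) := by
  haveI : Fact (Nat.Prime 2) := ⟨Nat.prime_two⟩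
  obtain ⟨e⟩ := Cfsg.Agent.S1082.result (F := F)
  obtain ⟨eA⟩ := CfsgLib.AutPSL.exists_ringAut_equiv hF hf
  obtain ⟨eO⟩ := out_two hF
  exact ⟨((CfsgLib.Extraspecial.outCongr e).symm.trans eO).trans ((MulEquiv.refl _).prodCongr eA)⟩

end CfsgLib.ChevAut.D4
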